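import Groth.Agent.LunaNhdLib.Ambient
import Groth.Agent.Comodule.StableLocus
import Groth.Agent.LieKolchin.Points
import Groth.Prelude.Def_GLin
import Mathlib

/-!
# The adjoint coaction of an affine group on itself
-/

set_option autoImplicit false
set_option backward.isDefEq.respectTransparency false
set_option backward.isDefEq.respectTransparency.types false

universe u

open TensorProduct WithConv

noncomputable section

namespace Groth.Agent.ConjSs

open Groth.Agent.Comodule

/-- The coordinate ring with the adjoint coaction. -/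
def Cj (A : Type u) : Type u := A

variable {k : Type u} [Field k] {A : Type u} [CommRing A] [HopfAlgebra k A]

instance : CommRing (Cj A) := inferInstanceAs (CommRing A)

instance : Algebra k (Cj A) := inferInstanceAs (Algebra k A)

instance [Algebra.FiniteType k A] : Algebra.FiniteType k (Cj A) := inferInstanceAs (Algebra.FiniteType k A)

variable (k A)

/-- The left inclusion. -/
abbrev iL : A →ₐ[k] A ⊗[k] A := Algebra.TensorProduct.includeLeft

/-- The right inclusion. -/
abbrev iR : A →ₐ[k] A ⊗[k] A := Algebra.TensorProduct.includeRight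

/-- The adjoint coaction, `a ↦ ((x, h) ↦ a (h⁻¹ x h))`. -/
def ad : A →ₐ[k] A ⊗[k] A := ((toConv (iR k A))⁻¹ * toConv (iL k A) * toConv (iR k A)).ofConv

variable {k A}

/-- The group of points with values in an algebra. -/
@[reducible] def ptGroup (T : Type u) [CommRing T] [Algebra k T] : Group (WithConv (A →ₐ[k] T)) :=
  { (inferInstance : Monoid (WithConv (A →ₐ[k] T))) with
    inv := fun f => toConv (f.ofConv.comp (HopfAlgebra.antipodeAlgHom k A))
    inv_mul_cancel := fun f => HopfFF.comp_antipode_left f.ofConv }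

section Any

attribute [local instance 2000] ptGroup

theorem pt_mul_inv_rev {T : Type u} [CommRing T] [Algebra k T] (a b : WithConv (A →ₐ[k] T)) :
    (a * b)⁻¹ = b⁻¹ * a⁻¹ := mul_inv_rev a b

theorem pt_inv_one {T : Type u} [CommRing T] [Algebra k T] : (1 : WithConv (A →ₐ[k] T))⁻¹ = 1 :=
  inv_one (G := WithConv (A →ₐ[k] T))

theorem pt_assoc {T : Type u} [CommRing T] [Algebra k T] (a b c : WithConv (A →ₐ[k] T)) :
    a * b * c = a * (b * c) := mul_assoc a b c

theorem pt_one_mul {T : Type u} [CommRing T] [Algebra k T] (a : WithConv (A →ₐ[k] T)) : 1 * a = a := one_mul a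

theorem pt_mul_one {T : Type u} [CommRing T] [Algebra k T] (a : WithConv (A →ₐ[k] T)) : a * 1 = a := mul_one a

theorem toConv_comp_inv {T T' : Type u} [CommRing T] [Algebra k T] [CommRing T'] [Algebra k T']
    (F : T →ₐ[k] T') (f : WithConv (A →ₐ[k] T)) :
    toConv (F.comp (f⁻¹ : WithConv (A →ₐ[k] T)).ofConv) = (toConv (F.comp f.ofConv))⁻¹ := by
  refine eq_inv_of_mul_eq_one_left ?_
  refine WithConv.ofConv_injective ?_
  rw [← AlgHom.comp_convMul_distrib F f⁻¹ f, inv_mul_cancel]
  ext a
  simp [AlgHom.convOne_def]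

theorem comp_mul_toConv {T T' : Type u} [CommRing T] [Algebra k T] [CommRing T'] [Algebra k T']
    (F : T →ₐ[k] T') (f g : WithConv (A →ₐ[k] T)) :
    toConv (F.comp (f * g).ofConv) = toConv (F.comp f.ofConv) * toConv (F.comp g.ofConv) :=
  WithConv.ofConv_injective (AlgHom.comp_convMul_distrib F f g)

theorem toConv_comp_ad {T : Type u} [CommRing T] [Algebra k T] (F : A ⊗[k] A →ₐ[k] T) :
    toConv (F.comp (ad k A)) =
      (toConv (F.comp (iR k A)))⁻¹ * toConv (F.comp (iL k A)) * toConv (F.comp (iR k A)) := by
  rw [ad, comp_mul_toConv, comp_mul_toConv]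
  erw [toConv_comp_inv]

theorem toConv_comp_comul {T : Type u} [CommRing T] [Algebra k T] (F : A ⊗[k] A →ₐ[k] T) :
    toConv (F.comp (Bialgebra.comulAlgHom k A)) = toConv (F.comp (iL k A)) * toConv (F.comp (iR k A)) := by
  rw [← HopfFF.lift_comp_comul]
  congr 2
  ext a <;> simp

theorem ad_coassoc :
    (TensorProduct.assoc k A A A).toLinearMap ∘ₗ (ad k A).toLinearMap.rTensor A ∘ₗ (ad k A).toLinearMap =
      (CoalgebraStruct.comul (R := k) (A := A)).lTensor A ∘ₗ (ad k A).toLinearMap := by
  let E : (A ⊗[k] A) ⊗[k] A →ₐ[k] A ⊗[k] (A ⊗[k] A) := (Algebra.TensorProduct.assoc k k k A A A).toAlgHom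
  let L : A ⊗[k] A →ₐ[k] A ⊗[k] (A ⊗[k] A) := E.comp (Algebra.TensorProduct.map (ad k A) (AlgHom.id k A))
  let R : A ⊗[k] A →ₐ[k] A ⊗[k] (A ⊗[k] A) :=
    Algebra.TensorProduct.map (AlgHom.id k A) (Bialgebra.comulAlgHom k A)
  have hLR : toConv (L.comp (ad k A)) = toConv (R.comp (ad k A)) := by
    rw [toConv_comp_ad, toConv_comp_ad]
    let i1 : A →ₐ[k] A ⊗[k] (A ⊗[k] A) := Algebra.TensorProduct.includeLeft
    let j : A ⊗[k] A →ₐ[k] A ⊗[k] (A ⊗[k] A) := Algebra.TensorProduct.includeRight
    have e1 : R.comp (iL k A) = i1 := by ext a; simp [R, i1, Algebra.TensorProduct.one_def]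
    have e2 : R.comp (iR k A) = j.comp (Bialgebra.comulAlgHom k A) := by ext a; simp [R, j]
    have e3 : L.comp (iR k A) = j.comp (iR k A) := by ext a; simp [L, E, j, Algebra.TensorProduct.one_def]
    have e4 : L.comp (iL k A) = (E.comp Algebra.TensorProduct.includeLeft).comp (ad k A) := by
      ext a; simp [L, E]
    have e5 : (E.comp Algebra.TensorProduct.includeLeft).comp (iL k A) = i1 := by
      ext a; simp [E, i1, Algebra.TensorProduct.one_def]
    have e6 : (E.comp Algebra.TensorProduct.includeLeft).comp (iR k A) = j.comp (iL k A) := by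
      ext a; simp [E, j]
    rw [e1, e2, e3, e4, toConv_comp_ad, e5, e6, toConv_comp_comul, pt_mul_inv_rev]
    simp only [pt_assoc]
  refine LinearMap.ext fun a => ?_
  simp only [LinearMap.comp_apply, AlgHom.toLinearMap_apply, LinearEquiv.coe_coe]
  have h := congrArg (fun z : WithConv (A →ₐ[k] A ⊗[k] (A ⊗[k] A)) => z.ofConv a) hLR
  simp only [ofConv_toConv, AlgHom.comp_apply] at h
  refine Eq.trans ?_ (h.trans ?_)
  · simp only [L, E, AlgHom.comp_apply]
    generalize ad k A a = z
    induction z with
    | zero => simp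
    | add p q hp hq => simp only [map_add, hp, hq]
    | tmul p q =>
      simp only [LinearMap.rTensor_tmul, Algebra.TensorProduct.map_tmul, AlgHom.toLinearMap_apply, AlgHom.id_apply]
      generalize ad k A p = y
      induction y with
      | zero => simp
      | add p q hp hq => simp only [TensorProduct.add_tmul, map_add, hp, hq]
      | tmul p r => simp
  · simp only [R]
    generalize ad k A a = z
    induction z with
    | zero => simp
    | add p q hp hq => simp only [map_add, hp, hq]
    | tmul p q => simp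

theorem ad_counit :
    (CoalgebraStruct.counit (R := k) (A := A)).lTensor A ∘ₗ (ad k A).toLinearMap = (TensorProduct.mk k A k).flip 1 := by
  let F : A ⊗[k] A →ₐ[k] A ⊗[k] k := Algebra.TensorProduct.map (AlgHom.id k A) (Bialgebra.counitAlgHom k A)
  have h := toConv_comp_ad F
  have e1 : toConv (F.comp (iR k A)) = 1 := by
    refine WithConv.ofConv_injective (AlgHom.ext fun a => ?_)
    simp [F, AlgHom.convOne_def, Algebra.algebraMap_eq_smul_one, TensorProduct.smul_tmul, Algebra.TensorProduct.one_def,
      TensorProduct.smul_tmul']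
  rw [e1, pt_inv_one, pt_one_mul, pt_mul_one] at h
  refine LinearMap.ext fun a => ?_
  have h2 := congrArg (fun z : WithConv (A →ₐ[k] A ⊗[k] k) => z.ofConv a) h
  simp only [ofConv_toConv, AlgHom.comp_apply] at h2
  refine Eq.trans ?_ (h2.trans (by simp [F]))
  simp only [F, LinearMap.comp_apply, AlgHom.toLinearMap_apply]
  generalize ad k A a = z
  induction z with
  | zero => simp
  | add p q hp hq => simp only [map_add, hp, hq]
  | tmul p q => simp

end Any

instance comodCj : HopfRep.Comod k A (Cj A) where
  coact := (ad k A).toLinearMap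
  coassoc := ad_coassoc (k := k) (A := A)
  counit_comp := ad_counit (k := k) (A := A)

instance coactAlgCj : GLin.IsCoactAlg k A (Cj A) where
  coact_one := by have h := map_one (ad k A); exact h
  coact_mul := fun f g => by have h := map_mul (ad k A) (show A from f) (show A from g); exact h

/-- The orbit morphism of a point under conjugation. -/
def orbC (x : A →ₐ[k] k) : A →ₐ[k] A := GLin.orbitHom (R := Cj A) k A x

/-- A point of the group, as a point of the conjugation space. -/
def cpt (x : A →ₐ[k] k) : Cj A →ₐ[k] k := x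

/-- A point of the conjugation space, as a point of the group. -/
def gpt (x : Cj A →ₐ[k] k) : A →ₐ[k] k := x

@[simp] theorem gpt_cpt (x : A →ₐ[k] k) : gpt (cpt x) = x := rfl

@[simp] theorem cpt_gpt (x : Cj A →ₐ[k] k) : cpt (gpt x) = x := rfl

theorem orbitHom_cpt (x : A →ₐ[k] k) :
    toConv (orbC x) =
      (toConv (AlgHom.id k A))⁻¹ * toConv ((Algebra.ofId k A).comp x) * toConv (AlgHom.id k A) := by
  let F : A ⊗[k] A →ₐ[k] A :=
    (Algebra.TensorProduct.lid k A).toAlgHom.comp (Algebra.TensorProduct.map x (AlgHom.id k A))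
  have h := toConv_comp_ad F
  have e1 : F.comp (iR k A) = AlgHom.id k A := by ext a; simp [F]
  have e2 : F.comp (iL k A) = (Algebra.ofId k A).comp x := by ext a; simp [F, Algebra.algebraMap_eq_smul_one]
  rw [e1, e2] at h
  have e : orbC x = F.comp (ad k A) := AlgHom.ext fun a => by
    simp only [orbC, GLin.orbitHom]
    rfl
  rw [e]
  exact h

/-- Moving a point is conjugating it. -/
theorem actPt_cpt (h x : A →ₐ[k] k) :
    (GLin.actPt k h (cpt x) : Cj A →ₐ[k] k) = cpt ((toConv h)⁻¹ * toConv x * toConv h).ofConv := by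
  have e3 : h.comp ((Algebra.ofId k A).comp x) = x := by ext a; simp
  have e : toConv (h.comp (orbC x)) = (toConv h)⁻¹ * toConv x * toConv h := by
    rw [show orbC x = (toConv (orbC x)).ofConv from rfl, orbitHom_cpt, comp_mul_toConv, comp_mul_toConv]
    erw [toConv_comp_inv]
    simp only [AlgHom.comp_id, e3]
  refine AlgHom.ext fun a => ?_
  exact congrArg (fun z : WithConv (A →ₐ[k] k) => z.ofConv a) e

theorem apply_ad (x h : A →ₐ[k] k) (a : A) :
    (Algebra.TensorProduct.lift x h fun _ _ => Commute.all _ _) (ad k A a) =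
      ((toConv h)⁻¹ * toConv x * toConv h).ofConv a := by
  have e := toConv_comp_ad (Algebra.TensorProduct.lift x h fun _ _ => Commute.all _ _)
  have e1 : (Algebra.TensorProduct.lift x h fun _ _ => Commute.all _ _).comp (iR k A) = h := by ext b; simp
  have e2 : (Algebra.TensorProduct.lift x h fun _ _ => Commute.all _ _).comp (iL k A) = x := by ext b; simp
  rw [e1, e2] at e
  exact congrArg (fun z : WithConv (A →ₐ[k] k) => z.ofConv a) e

end Groth.Agent.ConjSs
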