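import Groth.Agent.ConjSsLib.Main
import Mathlib

/-!
# Finitely many representations separate semisimple classes
-/

set_option autoImplicit false
set_option maxHeartbeats 1000000
set_option backward.isDefEq.respectTransparency false
set_option backward.isDefEq.respectTransparency.types false
set_option linter.style.haveILetI false

universe u

open TensorProduct WithConv

noncomputable section

namespace Groth.Agent.ConjSs

open Groth.Agent.Comodule Groth.Agent.LieKolchin

variable {k : Type u} [Field k] {A : Type u} [CommRing A] [HopfAlgebra k A]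

/-- The character of a comodule evaluates to the trace. -/
theorem apply_char {n : ℕ} (c : HopfRep.Comod k A (Fin n → k)) (g : A →ₐ[k] k) :
    g (∑ t, cf c t t) =
      LinearMap.trace k (Fin n → k) (@HopfRep.Comod.act k A _ _ _ (Fin n → k) _ _ c g) := by
  letI := c
  rw [map_sum, LinearMap.trace_eq_matrix_trace k (Pi.basisFun k (Fin n)), Matrix.trace]
  refine Finset.sum_congr rfl fun t _ => ?_
  rw [Matrix.diag_apply, LinearMap.toMatrix_apply, Pi.basisFun_repr, Pi.basisFun_apply]
  refine (apply_cf c (toConv g.toLinearMap) t t).trans ?_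
  rw [show HopfRep.Comod.act k A (Fin n → k) g = actHom k A (Fin n → k) (toConv g) from
    (actHom_eq_act (toConv g)).symm]
  rfl

variable [IsAlgClosed k] [CharZero k] [Algebra.FiniteType k A]

/-- Finitely many representations detect the conjugacy class of a semisimple point. -/
theorem exists_detecting (g : A →ₐ[k] k) (hg : SS g) :
    ∃ (m : ℕ) (d : Fin m → ℕ) (c : (i : Fin m) → HopfRep.Comod k A (Fin (d i) → k)),
      ∀ g' : A →ₐ[k] k,
        (∀ i : Fin m, ∃ P : (Fin (d i) → k) ≃ₗ[k] (Fin (d i) → k),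
            P.toLinearMap ∘ₗ @HopfRep.Comod.act k A _ _ _ (Fin (d i) → k) _ _ (c i) g' =
              (@HopfRep.Comod.act k A _ _ _ (Fin (d i) → k) _ _ (c i) g) ∘ₗ P.toLinearMap) →
          ∃ x : WithConv (A →ₐ[k] k), x * toConv g' * x⁻¹ = toConv g := by
  classical
  haveI : IsNoetherianRing A := Algebra.FiniteType.isNoetherianRing k A
  obtain ⟨d₀, M, hM, hgen⟩ := exists_gen_matrix k A
  obtain ⟨q, hq, hq0⟩ := exists_sqfree hM hg
  let chi : (Σ n : ℕ, HopfRep.Comod k A (Fin n → k)) → A := fun p =>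
    (∑ t, cf p.2 t t) - algebraMap k A (g (∑ t, cf p.2 t t))
  obtain ⟨T, hT, hTspan⟩ := (Submodule.fg_span_iff_fg_span_finset_subset (Set.range chi)).mp
    (IsNoetherian.noetherian (Ideal.span (Set.range chi)))
  choose p hp using fun a : T => hT a.2
  let r : Option T → (Σ n : ℕ, HopfRep.Comod k A (Fin n → k)) := fun o => o.elim ⟨d₀, matComod hM⟩ p
  let e : Option T ≃ Fin (Fintype.card (Option T)) := Fintype.equivFin _
  refine ⟨Fintype.card (Option T), fun i => (r (e.symm i)).1, fun i => (r (e.symm i)).2, fun g' hg' => ?_⟩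
  have hsim : ∀ o : Option T, ∃ P : (Fin (r o).1 → k) ≃ₗ[k] (Fin (r o).1 → k),
      P.toLinearMap ∘ₗ @HopfRep.Comod.act k A _ _ _ (Fin (r o).1 → k) _ _ (r o).2 g' =
        (@HopfRep.Comod.act k A _ _ _ (Fin (r o).1 → k) _ _ (r o).2 g) ∘ₗ P.toLinearMap := fun o => by
    let Sim : (Σ n : ℕ, HopfRep.Comod k A (Fin n → k)) → Prop := fun z =>
      ∃ P : (Fin z.1 → k) ≃ₗ[k] (Fin z.1 → k),
        P.toLinearMap ∘ₗ @HopfRep.Comod.act k A _ _ _ (Fin z.1 → k) _ _ z.2 g' =
          (@HopfRep.Comod.act k A _ _ _ (Fin z.1 → k) _ _ z.2 g) ∘ₗ P.toLinearMap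
    exact (congrArg (fun o' => Sim (r o')) (e.symm_apply_apply o)).mp (hg' (e o))
  have hss' : SS g' := by
    obtain ⟨P, hP⟩ := hsim none
    change P.toLinearMap ∘ₗ @HopfRep.Comod.act k A _ _ _ (Fin d₀ → k) _ _ (matComod hM) g' =
      (@HopfRep.Comod.act k A _ _ _ (Fin d₀ → k) _ _ (matComod hM) g) ∘ₗ P.toLinearMap at hP
    rw [act_matComod, act_matComod] at hP
    refine ss_of_aeval hM hgen hq ?_
    apply (Matrix.toLinAlgEquiv' (R := k)).injective
    rw [map_zero, ← Polynomial.aeval_algHom_apply]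
    have h1 : Matrix.toLinAlgEquiv' (M.map g') = LinearEquiv.conjAlgEquiv k P.symm (Matrix.toLinAlgEquiv' (M.map g)) := by
      refine LinearMap.ext fun v => P.injective ?_
      exact (LinearMap.congr_fun hP v).trans (P.apply_symm_apply _).symm
    rw [h1]
    erw [Polynomial.aeval_algHom_apply (LinearEquiv.conjAlgEquiv k P.symm).toAlgHom,
      Polynomial.aeval_algHom_apply (Matrix.toLinAlgEquiv' (R := k)).toAlgHom]
    erw [hq0]
    rw [map_zero, map_zero]
  have hle : Ideal.span (Set.range chi) ≤ RingHom.ker g' := by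
    refine le_of_eq_of_le hTspan (Ideal.span_le.2 fun a ha => ?_)
    obtain ⟨P, hP⟩ := hsim (some ⟨a, ha⟩)
    change P.toLinearMap ∘ₗ @HopfRep.Comod.act k A _ _ _ (Fin (p ⟨a, ha⟩).1 → k) _ _ (p ⟨a, ha⟩).2 g' =
      (@HopfRep.Comod.act k A _ _ _ (Fin (p ⟨a, ha⟩).1 → k) _ _ (p ⟨a, ha⟩).2 g) ∘ₗ P.toLinearMap at hP
    show g' a = 0
    rw [show a = chi (p ⟨a, ha⟩) from (hp ⟨a, ha⟩).symm]
    simp only [chi, map_sub, AlgHom.commutes, Algebra.algebraMap_self, RingHom.id_apply, sub_eq_zero, apply_char]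
    generalize @HopfRep.Comod.act k A _ _ _ (Fin (p ⟨a, ha⟩).1 → k) _ _ (p ⟨a, ha⟩).2 g' = u at hP ⊢
    generalize @HopfRep.Comod.act k A _ _ _ (Fin (p ⟨a, ha⟩).1 → k) _ _ (p ⟨a, ha⟩).2 g = v at hP ⊢
    rw [← LinearMap.trace_conj' u P]
    congr 1
    refine LinearMap.ext fun x => ?_
    rw [LinearEquiv.conj_apply, LinearMap.comp_apply, LinearMap.comp_apply]
    exact (LinearMap.congr_fun hP (P.symm x)).trans (congrArg v (P.apply_symm_apply x))
  refine conj_of_trace' hss' hg fun n c => ?_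
  have h : g' (chi ⟨n, c⟩) = 0 := hle (Ideal.subset_span ⟨⟨n, c⟩, rfl⟩)
  simp only [chi, map_sub, AlgHom.commutes, Algebra.algebraMap_self, RingHom.id_apply, sub_eq_zero, apply_char] at h
  exact h

end Groth.Agent.ConjSs
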