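import Mathlib

/-!
# Semisimple elements of algebras: a derivative criterion and a decomposition
-/

set_option autoImplicit false
set_option linter.unusedVariables false

noncomputable section

open Polynomial

namespace Groth.Agent.ConjSs

variable {k : Type*} [Field k]

section Ring

variable {S : Type*} [Ring S] [Algebra k S]

/-- Taylor's formula with an increment of square zero. -/
theorem aeval_add_sq_zero (p : k[X]) {a e : S} (I : Submodule k S) (hI : ∀ z ∈ I, ∀ n : ℕ, a ^ n * z ∈ I)
    (hIe : ∀ z ∈ I, z * (a + e) ∈ I) (hc : Commute a e) (he : e * e ∈ I) :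
    aeval (a + e) p - aeval a p - aeval a (derivative p) * e ∈ I := by
  have key : ∀ n : ℕ, (a + e) ^ n - a ^ n - (n : k) • (a ^ (n - 1) * e) ∈ I := by
    intro n
    induction n with
    | zero => simp
    | succ n ih =>
      have h1 := hIe _ ih
      rcases Nat.eq_zero_or_pos n with hn | hn
      · subst hn; simp
      have e1 : (a ^ (n - 1) * e) * a = a ^ n * e := by
        rw [mul_assoc, ← hc.eq, ← mul_assoc, ← pow_succ, Nat.sub_add_cancel hn]
      have e3 : (a + e) ^ (n + 1) - a ^ (n + 1) - ((n + 1 : ℕ) : k) • (a ^ (n + 1 - 1) * e) =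
          ((a + e) ^ n - a ^ n - (n : k) • (a ^ (n - 1) * e)) * (a + e) +
            (n : k) • (a ^ (n - 1) * (e * e)) := by
        rw [sub_mul, sub_mul, smul_mul_assoc, mul_add (a ^ (n - 1) * e), e1, ← pow_succ, mul_add (a ^ n), ← pow_succ,
          smul_add, mul_assoc (a ^ (n - 1)) e e, Nat.add_sub_cancel, Nat.cast_add, Nat.cast_one, add_smul, one_smul]
        abel
      rw [e3]
      exact I.add_mem h1 (I.smul_mem _ (hI _ he (n - 1)))
  induction p using Polynomial.induction_on' with
  | add p q hp hq =>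
    have := I.add_mem hp hq
    simp only [map_add, add_mul]
    convert this using 1
    abel
  | monomial n c =>
    rw [derivative_monomial]
    simp only [aeval_monomial, ← Algebra.smul_def, smul_mul_assoc, mul_smul, ← smul_sub]
    exact I.smul_mem c (key n)

/-- A separable polynomial with roots at `a` and at a commuting square-zero deformation forces the deformation to vanish. -/
theorem mem_of_sq_mem {q : k[X]} (hq : q.Separable) {a e : S} (I : Submodule k S)
    (hI : ∀ z ∈ I, ∀ p : k[X], aeval a p * z ∈ I) (hIe : ∀ z ∈ I, z * (a + e) ∈ I) (hc : Commute a e)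
    (he : e * e ∈ I) (ha : aeval a q = 0) (hae : aeval (a + e) q ∈ I) : e ∈ I := by
  have h1 := aeval_add_sq_zero q I (fun z hz n => by simpa using hI z hz (X ^ n)) hIe hc he
  rw [ha, sub_zero] at h1
  have h2 : aeval a (derivative q) * e ∈ I := by
    have h3 := I.sub_mem hae h1
    rwa [sub_sub_cancel] at h3
  obtain ⟨u, v, huv⟩ := hq
  have h4 := congrArg (aeval a) huv
  rw [map_add, map_mul, map_mul, ha, mul_zero, zero_add, map_one] at h4
  have := hI _ h2 v
  rwa [← mul_assoc, h4, one_mul] at this

/-- Polynomials respect congruences. -/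
theorem aeval_sub_mem (p : k[X]) (E : Subalgebra k S) (I : Submodule k S) (hl : ∀ x ∈ E, ∀ z ∈ I, x * z ∈ I)
    (hr : ∀ x ∈ E, ∀ z ∈ I, z * x ∈ I) {a b : S} (ha : a ∈ E) (hb : b ∈ E) (h : a - b ∈ I) :
    aeval a p - aeval b p ∈ I := by
  induction p using Polynomial.induction_on' with
  | add p q hp hq =>
    have := I.add_mem hp hq
    simp only [map_add]
    convert this using 1
    abel
  | monomial n c =>
    simp only [aeval_monomial, ← Algebra.smul_def, ← smul_sub]
    refine I.smul_mem c ?_
    induction n with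
    | zero => simp
    | succ n ih =>
      rw [pow_succ, pow_succ, show a ^ n * a - b ^ n * b = (a ^ n - b ^ n) * a + b ^ n * (a - b) from by
        rw [sub_mul, mul_sub]; abel]
      exact I.add_mem (hr a ha _ ih) (hl _ (pow_mem hb n) _ h)

theorem aeval_mulLeft (s : S) (p : k[X]) : aeval (LinearMap.mulLeft k s) p = LinearMap.mulLeft k (aeval s p) :=
  aeval_algHom_apply (Algebra.lmul k S) s p

theorem aeval_mulRight (s : S) (p : k[X]) : aeval (LinearMap.mulRight k s) p = LinearMap.mulRight k (aeval s p) := by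
  induction p using Polynomial.induction_on' with
  | add p q hp hq => rw [map_add, map_add, hp, hq]; ext z; simp [mul_add]
  | monomial n c =>
    rw [aeval_monomial, aeval_monomial, ← Algebra.smul_def, ← Algebra.smul_def, LinearMap.pow_mulRight]
    ext z
    simp

end Ring

/-- The kernel and the range of an endomorphism killed by a squarefree polynomial are complementary. -/
theorem exists_ker_add_range {M : Type*} [AddCommGroup M] [Module k M] (T : Module.End k M) {q : k[X]}
    (hq : Squarefree q) (hT : aeval T q = 0) (P : Submodule k M) (hP : ∀ x ∈ P, T x ∈ P) {x : M} (hx : x ∈ P) :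
    ∃ x₁ ∈ P, ∃ y ∈ P, T x₁ = 0 ∧ x = x₁ + T y := by
  have hmem : ∀ p : k[X], ∀ z ∈ P, aeval T p z ∈ P := by
    intro p z hz
    induction p using Polynomial.induction_on' with
    | add p q hp hq => rw [map_add, LinearMap.add_apply]; exact P.add_mem hp hq
    | monomial n c =>
      rw [aeval_monomial, ← Algebra.smul_def, LinearMap.smul_apply]
      refine P.smul_mem c ?_
      induction n with
      | zero => simpa using hz
      | succ n ih => rw [pow_succ', Module.End.mul_apply]; exact hP _ ih
  obtain ⟨r, hr0, hr⟩ : ∃ r : k[X], r.coeff 0 ≠ 0 ∧ aeval T (X * r) = 0 := by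
    by_cases h0 : q.coeff 0 = 0
    · obtain ⟨r, rfl⟩ := X_dvd_iff.2 h0
      refine ⟨r, fun h => ?_, hT⟩
      obtain ⟨r', rfl⟩ := X_dvd_iff.2 h
      exact not_isUnit_X (hq X ⟨r', by ring⟩)
    · exact ⟨q, h0, by rw [map_mul, hT, mul_zero]⟩
  have hd : (X * divX r + C (r.coeff 0)) = r := X_mul_divX_add r
  refine ⟨(r.coeff 0)⁻¹ • aeval T r x, P.smul_mem _ (hmem r x hx), -((r.coeff 0)⁻¹ • aeval T (divX r) x),
    P.neg_mem (P.smul_mem _ (hmem _ x hx)), ?_, ?_⟩
  · rw [map_smul, show T (aeval T r x) = aeval T (X * r) x from by simp, hr, LinearMap.zero_apply, smul_zero]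
  · have h1 : aeval T r x = T (aeval T (divX r) x) + r.coeff 0 • x := by
      have h2 := (congrArg (fun p => aeval T p x) hd).symm
      simp only [map_add, map_mul, aeval_X, aeval_C, LinearMap.add_apply, Module.End.mul_apply,
        Module.algebraMap_end_apply] at h2
      exact h2
    rw [h1, map_neg, map_smul, smul_add, smul_smul, inv_mul_cancel₀ hr0, one_smul]
    abel

/-- An invertible element killed by a squarefree polynomial has an inverse polynomial in it. -/
theorem exists_inv_poly {S : Type*} [Ring S] [Algebra k S] {q : k[X]} (hq : Squarefree q) {s si : S}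
    (hs : aeval s q = 0) (h1 : si * s = 1) : ∃ p : k[X], aeval s p = si := by
  obtain ⟨r, hr0, hr⟩ : ∃ r : k[X], r.coeff 0 ≠ 0 ∧ aeval s r = 0 := by
    by_cases h0 : q.coeff 0 = 0
    · obtain ⟨r, rfl⟩ := X_dvd_iff.2 h0
      refine ⟨r, fun h => ?_, ?_⟩
      · obtain ⟨r', rfl⟩ := X_dvd_iff.2 h
        exact not_isUnit_X (hq X ⟨r', by ring⟩)
      · rw [map_mul, aeval_X] at hs
        rw [← one_mul (aeval s r), ← h1, mul_assoc, hs, mul_zero]
    · exact ⟨q, h0, hs⟩
  have h2 := congrArg (fun z => si * z) hr
  simp only [mul_zero] at h2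
  rw [← X_mul_divX_add r, map_add, map_mul, aeval_X, aeval_C, mul_add, ← mul_assoc, h1, one_mul,
    ← Algebra.commutes, ← Algebra.smul_def] at h2
  refine ⟨-(C (r.coeff 0)⁻¹ * divX r), ?_⟩
  rw [map_neg, map_mul, aeval_C, ← Algebra.smul_def, eq_neg_of_add_eq_zero_left h2, smul_neg, neg_neg, smul_smul,
    inv_mul_cancel₀ hr0, one_smul]

/-- The decomposition under conjugation by a semisimple unit. -/
theorem exists_decomp [PerfectField k] {S : Type*} [Ring S] [Algebra k S] [Module.Finite k S] {q : k[X]}
    (hq : Squarefree q) {s si : S} (hs : aeval s q = 0) (h1 : si * s = 1)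
    (P : Submodule k S) (hP : ∀ x ∈ P, si * x * s ∈ P) {x : S} (hx : x ∈ P) :
    ∃ x₁ ∈ P, ∃ y ∈ P, si * x₁ * s = x₁ ∧ x = x₁ + (si * y * s - y) := by
  let L : Module.End k S := LinearMap.mulLeft k s
  let R : Module.End k S := LinearMap.mulRight k s
  obtain ⟨p, hp⟩ := exists_inv_poly hq hs h1
  have hL : L.IsSemisimple := Module.End.isSemisimple_of_squarefree_aeval_eq_zero hq (by
    rw [aeval_mulLeft, hs, LinearMap.mulLeft_zero_eq_zero])
  have hR : R.IsSemisimple := Module.End.isSemisimple_of_squarefree_aeval_eq_zero hq (by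
    rw [aeval_mulRight, hs, LinearMap.mulRight_zero_eq_zero])
  have hc : Commute L R := LinearMap.commute_mulLeft_right s s
  let T : Module.End k S := aeval L p * R - 1
  have hT : T.IsSemisimple := Module.End.IsSemisimple.of_mem_adjoin_pair hc hL hR (by
    refine sub_mem (mul_mem ?_ (Algebra.subset_adjoin (by simp [R]))) (one_mem _)
    exact (Algebra.adjoin_mono (by simp) : Algebra.adjoin k {L} ≤ _) (aeval_mem_adjoin_singleton k L))
  have hTa : ∀ z, T z = si * z * s - z := fun z => by
    simp [T, L, R, aeval_mulLeft, hp, mul_assoc]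
  obtain ⟨x₁, hx₁, y, hy, h0, he⟩ := exists_ker_add_range T (q := minpoly k T) hT.minpoly_squarefree
    (minpoly.aeval k T) P (fun z hz => by rw [hTa]; exact P.sub_mem (hP z hz) hz) hx
  rw [hTa] at h0 he
  exact ⟨x₁, hx₁, y, hy, sub_eq_zero.1 h0, he⟩

/-- An endomorphism with a spanning family of eigenvectors is semisimple. -/
theorem isSemisimple_of_iSup_eigenspace {M : Type*} [AddCommGroup M] [Module k M] (T : Module.End k M)
    (h : ⨆ μ, T.eigenspace μ = ⊤) : T.IsSemisimple := by
  have hinv : ∀ μ, T.eigenspace μ ∈ Module.End.invtSubmodule T := fun μ z hz => by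
    rw [Submodule.mem_comap, Module.End.mem_eigenspace_iff] at *
    rw [hz, map_smul, hz]
  let Q : k → Submodule k[X] (Module.AEval' T) := fun μ =>
    (Module.AEval.mapSubmodule k M T ⟨T.eigenspace μ, hinv μ⟩)
  refine isSemisimpleModule_of_isSemisimpleModule_submodule' (p := Q) (fun μ => ?_) ?_
  · have hm : ∀ z ∈ T.eigenspace μ, T z ∈ T.eigenspace μ := fun z hz => hinv μ hz
    have h1 : Module.End.IsSemisimple (T.restrict hm) := by
      refine Module.End.isSemisimple_of_squarefree_aeval_eq_zero (p := X - C μ) (irreducible_X_sub_C μ).squarefree ?_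
      ext z
      have hz := Module.End.mem_eigenspace_iff.1 z.2
      simp [hz]
    exact (Module.AEval.restrict_equiv_mapSubmodule T _ (hinv μ)).isSemisimpleModule_iff.1 h1
  · refine eq_top_iff.2 fun z _ => ?_
    obtain ⟨w, rfl⟩ := (Module.AEval'.of T).surjective z
    have hw : w ∈ ⨆ μ, T.eigenspace μ := h ▸ Submodule.mem_top
    refine Submodule.iSup_induction _ (motive := fun v => Module.AEval'.of T v ∈ ⨆ μ, Q μ) hw
      (fun μ v hv => Submodule.mem_iSup_of_mem μ ?_) (by simp) (fun u v hu hv => by
        rw [map_add]; exact add_mem hu hv)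
    exact ⟨v, hv, rfl⟩

end Groth.Agent.ConjSs
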