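import Groth.Agent.ConjSsLib.AdCoact
import Groth.Agent.ConjSsLib.Semis
import Mathlib

/-!
# Conjugacy classes of semisimple elements are closed
-/

set_option autoImplicit false
set_option maxHeartbeats 1000000
set_option backward.isDefEq.respectTransparency false
set_option backward.isDefEq.respectTransparency.types false

universe u

open TensorProduct WithConv

noncomputable section

namespace Groth.Agent.ConjSs

open Groth.Agent.Comodule

variable {k : Type u} [Field k] {A : Type u} [CommRing A] [HopfAlgebra k A] {d : ℕ}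

/-- A multiplicative matrix. -/
structure IsMult (k : Type u) [Field k] {A : Type u} [CommRing A] [HopfAlgebra k A]
    (M : Matrix (Fin d) (Fin d) A) : Prop where
  comul : ∀ i j, CoalgebraStruct.comul (R := k) (M i j) = ∑ l, M i l ⊗ₜ[k] M l j
  counit : ∀ i j, CoalgebraStruct.counit (R := k) (M i j) = if i = j then 1 else 0

variable {M : Matrix (Fin d) (Fin d) A}

theorem IsMult.map_mul (hM : IsMult k M) {T : Type u} [CommRing T] [Algebra k T] (f g : WithConv (A →ₐ[k] T)) :
    M.map (f * g).ofConv = M.map f.ofConv * M.map g.ofConv := by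
  ext i j
  rw [Matrix.map_apply, AlgHom.convMul_apply, hM.comul, map_sum, Matrix.mul_apply]
  simp

theorem IsMult.map_one (hM : IsMult k M) {T : Type u} [CommRing T] [Algebra k T] :
    M.map (1 : WithConv (A →ₐ[k] T)).ofConv = 1 := by
  ext i j
  rw [Matrix.map_apply, AlgHom.convOne_apply, hM.counit, Matrix.one_apply]
  split_ifs <;> simp

theorem IsMult.inv_mul (hM : IsMult k M) {T : Type u} [CommRing T] [Algebra k T] (f : A →ₐ[k] T) :
    M.map (f.comp (HopfAlgebra.antipodeAlgHom k A)) * M.map f = 1 := by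
  rw [← hM.map_one (T := T), ← HopfFF.comp_antipode_left f, hM.map_mul]

theorem IsMult.map_inv_mul (hM : IsMult k M) (h : WithConv (A →ₐ[k] k)) :
    M.map (h⁻¹ : WithConv (A →ₐ[k] k)).ofConv * M.map h.ofConv = 1 := by
  rw [← hM.map_mul, inv_mul_cancel, hM.map_one]

theorem IsMult.map_mul_inv (hM : IsMult k M) (h : WithConv (A →ₐ[k] k)) :
    M.map h.ofConv * M.map (h⁻¹ : WithConv (A →ₐ[k] k)).ofConv = 1 := by
  rw [← hM.map_mul, mul_inv_cancel, hM.map_one]

theorem map_aeval {T : Type u} [CommRing T] [Algebra k T] (f : A →ₐ[k] T) (q : Polynomial k)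
    (N : Matrix (Fin d) (Fin d) A) : (Polynomial.aeval N q).map f = Polynomial.aeval (N.map f) q :=
  (Polynomial.aeval_algHom_apply f.mapMatrix N q).symm

theorem aeval_conj_eq {S : Type*} [Ring S] [Algebra k S] {a b N : S} (hab : a * b = 1) (hba : b * a = 1)
    (q : Polynomial k) : Polynomial.aeval (a * N * b) q = a * Polynomial.aeval N q * b := by
  have key : ∀ n : ℕ, (a * N * b) ^ n = a * N ^ n * b := by
    intro n
    induction n with
    | zero => simp [hab]
    | succ n ih =>
      rw [pow_succ, pow_succ, ih]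
      simp only [mul_assoc]
      rw [← mul_assoc b a, hba, one_mul]
  induction q using Polynomial.induction_on' with
  | add p q hp hq => rw [map_add, map_add, hp, hq, mul_add, add_mul]
  | monomial n c =>
    rw [Polynomial.aeval_monomial, Polynomial.aeval_monomial, ← Algebra.smul_def, ← Algebra.smul_def, key,
      mul_smul_comm, smul_mul_assoc]

variable (M) in
/-- The ideal of the points killed by a polynomial. -/
def JI (q : Polynomial k) : Ideal A :=
  Ideal.span (Set.range fun p : Fin d × Fin d => (Polynomial.aeval M q) p.1 p.2)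

theorem mem_JI (q : Polynomial k) (i j : Fin d) : (Polynomial.aeval M q) i j ∈ JI M q :=
  Ideal.subset_span ⟨(i, j), rfl⟩

theorem apply_JI (q : Polynomial k) (x : A →ₐ[k] k) :
    (∀ a ∈ JI M q, x a = 0) ↔ Polynomial.aeval (M.map x) q = 0 := by
  rw [← map_aeval]
  constructor
  · intro h
    ext i j
    exact h _ (mem_JI q i j)
  · intro h
    have hle : JI M q ≤ RingHom.ker x := Ideal.span_le.2 <| by
      rintro _ ⟨⟨i, j⟩, rfl⟩
      exact congrFun (congrFun h i) j
    exact fun a ha => hle ha

/-- The ideal is stable under conjugation. -/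
theorem ad_JI (hM : IsMult k M) (q : Polynomial k) {a : A} (ha : a ∈ JI M q) :
    ad k A a ∈ (JI M q).map (iL k A) := by
  suffices h : (JI M q) ≤ ((JI M q).map (iL k A)).comap (ad k A) from h ha
  refine Ideal.span_le.2 ?_
  rintro _ ⟨⟨i, j⟩, rfl⟩
  show ad k A _ ∈ (JI M q).map (iL k A)
  let P := M.map (iR k A)
  let P' := M.map ((iR k A).comp (HopfAlgebra.antipodeAlgHom k A))
  have h1 : P' * P = 1 := hM.inv_mul _
  have h2 : P * P' = 1 := mul_eq_one_comm.1 h1
  have h3 : M.map (ad k A) = P' * M.map (iL k A) * P := by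
    rw [ad, hM.map_mul, hM.map_mul]
    rfl
  have h4 : (Polynomial.aeval M q).map (ad k A) = P' * (Polynomial.aeval M q).map (iL k A) * P := by
    rw [map_aeval, map_aeval, h3, aeval_conj_eq h1 h2]
  have h5 := congrFun (congrFun h4 i) j
  rw [Matrix.map_apply] at h5
  rw [h5, Matrix.mul_apply]
  refine Ideal.sum_mem _ fun l _ => Ideal.mul_mem_right _ _ ?_
  rw [Matrix.mul_apply]
  exact Ideal.sum_mem _ fun m _ => Ideal.mul_mem_left _ _ (Ideal.mem_map_of_mem _ (mem_JI q m l))

/-- The vector field of a tangent vector at the identity. -/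
def Dv (ξ : A →ₗ[k] k) : A →ₗ[k] A := rcon ξ ∘ₗ (ad k A).toLinearMap

theorem Dv_mem {J : Ideal A} (hJ : ∀ a ∈ J, ad k A a ∈ J.map (iL k A)) (ξ : A →ₗ[k] k) {a : A} (ha : a ∈ J) :
    Dv ξ a ∈ J := by
  have key : ∀ z ∈ J.map (iL k A), ∀ c : A ⊗[k] A, rcon ξ (c * z) ∈ J := by
    intro z hz
    induction hz using Submodule.span_induction with
    | mem z hz =>
      obtain ⟨b, hb, rfl⟩ := hz
      intro c
      induction c with
      | zero => simp
      | add p q hp hq => rw [add_mul, map_add]; exact J.add_mem hp hq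
      | tmul p r =>
        show rcon ξ (p ⊗ₜ[k] r * b ⊗ₜ[k] (1 : A)) ∈ J
        rw [Algebra.TensorProduct.tmul_mul_tmul, rcon_tmul, Algebra.smul_def]
        exact J.mul_mem_left _ (J.mul_mem_left _ hb)
    | zero => intro c; simp
    | add p q _ _ hp hq => intro c; rw [mul_add, map_add]; exact J.add_mem (hp c) (hq c)
    | smul r p _ hp => intro c; rw [smul_eq_mul, ← mul_assoc]; exact hp _
  have := key _ (hJ a ha) 1
  rwa [one_mul] at this

theorem rcon_counit_ad (a : A) : rcon (Coalgebra.counit (R := k)) (ad k A a) = a := by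
  have h := LinearMap.congr_fun (ad_counit (k := k) (A := A)) a
  simp only [LinearMap.comp_apply, AlgHom.toLinearMap_apply] at h
  simp only [rcon, LinearMap.comp_apply, h]
  simp

theorem Dv_mul {ξ : A →ₗ[k] k} (hξ : LunaNhd.IsPD ξ) (a b : A) :
    Dv ξ (a * b) = Dv ξ a * b + a * Dv ξ b := by
  have key : ∀ y z : A ⊗[k] A, rcon ξ (y * z) =
      rcon ξ y * rcon (Coalgebra.counit (R := k)) z + rcon (Coalgebra.counit (R := k)) y * rcon ξ z := by
    intro y z
    induction y with
    | zero => simp
    | add p q hp hq => simp only [add_mul, map_add, hp, hq]; ring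
    | tmul p q =>
      induction z with
      | zero => simp
      | add r s hr hs => simp only [mul_add, map_add, hr, hs]; ring
      | tmul r s =>
        simp only [Algebra.TensorProduct.tmul_mul_tmul, rcon_tmul, hξ q s, smul_mul_smul_comm, add_smul]
  simp only [Dv, LinearMap.comp_apply, AlgHom.toLinearMap_apply, map_mul, key, rcon_counit_ad]

theorem apply_orbC (x q : A →ₐ[k] k) (a : A) :
    q (orbC x a) = ((toConv q)⁻¹ * toConv x * toConv q).ofConv a :=
  congrArg (fun z : Cj A →ₐ[k] k => gpt z a) (actPt_cpt q x)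

theorem counit_orbC (x : A →ₐ[k] k) (a : A) : Coalgebra.counit (R := k) (orbC x a) = x a := by
  have e : toConv (Bialgebra.counitAlgHom k A) = (1 : WithConv (A →ₐ[k] k)) := by
    ext b; simp [AlgHom.convOne_def]
  rw [← Bialgebra.counitAlgHom_apply, apply_orbC, e, inv_one, one_mul, mul_one]

theorem apply_Dv (x : A →ₐ[k] k) (ξ : A →ₗ[k] k) (a : A) : x (Dv ξ a) = ξ (orbC x a) := by
  simp only [Dv, LinearMap.comp_apply, AlgHom.toLinearMap_apply]
  have e : orbC x a = Algebra.TensorProduct.lid k A (Algebra.TensorProduct.map x (AlgHom.id k A) (ad k A a)) := by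
    simp only [orbC, GLin.orbitHom]
    rfl
  rw [e]
  generalize ad k A a = z
  induction z with
  | zero => simp
  | add p q hp hq => simp only [map_add, hp, hq]
  | tmul p q => simp [mul_comm]

theorem map_orbC (hM : IsMult k M) (h : A →ₐ[k] k) :
    M.map (orbC h) = M.map (HopfAlgebra.antipodeAlgHom k A) * (M.map h).map (algebraMap k A) * M := by
  have e := congrArg (fun z : WithConv (A →ₐ[k] A) => M.map z.ofConv) (orbitHom_cpt (k := k) h)
  simp only [ofConv_toConv] at e
  rw [e, hM.map_mul, hM.map_mul, Matrix.map_map]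
  congr 1

theorem pd_map_mul {ξ : A →ₗ[k] k} (hξ : LunaNhd.IsPD ξ) (P Q : Matrix (Fin d) (Fin d) A) :
    (P * Q).map ξ = P.map ξ * Q.map (Bialgebra.counitAlgHom k A) + P.map (Bialgebra.counitAlgHom k A) * Q.map ξ := by
  ext i j
  simp only [Matrix.map_apply, Matrix.add_apply, Matrix.mul_apply, map_sum, ← Finset.sum_add_distrib]
  exact Finset.sum_congr rfl fun l _ => hξ _ _

theorem map_counit (hM : IsMult k M) : M.map (Bialgebra.counitAlgHom k A) = 1 := by
  ext i j
  rw [Matrix.map_apply, Bialgebra.counitAlgHom_apply, hM.counit, Matrix.one_apply]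

theorem map_antipode_counit (hM : IsMult k M) :
    (M.map (HopfAlgebra.antipodeAlgHom k A)).map (Bialgebra.counitAlgHom k A) = 1 := by
  ext i j
  rw [Matrix.map_apply, Matrix.map_apply, Bialgebra.counitAlgHom_apply, Matrix.one_apply]
  exact (HopfAlgebra.counit_antipode (R := k) (M i j)).trans (hM.counit i j)

theorem pd_map_orbC (hM : IsMult k M) {ξ : A →ₗ[k] k} (hξ : LunaNhd.IsPD ξ) (h : A →ₐ[k] k) :
    (M.map (orbC h)).map ξ = M.map h * M.map ξ - M.map ξ * M.map h := by
  have hc : ∀ N : Matrix (Fin d) (Fin d) k, (N.map (algebraMap k A)).map ξ = 0 := fun N =>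
    Matrix.ext fun i j => hξ.algebraMap_eq _
  have hc' : ∀ N : Matrix (Fin d) (Fin d) k, (N.map (algebraMap k A)).map (Bialgebra.counitAlgHom k A) = N :=
    fun N => Matrix.ext fun i j => by simp
  have hS : (M.map (HopfAlgebra.antipodeAlgHom k A)).map ξ = -M.map ξ := by
    have h1 := congrArg (fun N : Matrix (Fin d) (Fin d) A => N.map ξ) (hM.inv_mul (AlgHom.id k A))
    simp only [AlgHom.id_comp] at h1
    rw [show M.map (AlgHom.id k A) = M from Matrix.ext fun i j => rfl, pd_map_mul hξ, map_counit hM, mul_one,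
      map_antipode_counit hM, one_mul,
      show ((1 : Matrix (Fin d) (Fin d) A).map ξ) = 0 from Matrix.ext fun i j => by
        rw [Matrix.map_apply, Matrix.one_apply]
        split_ifs
        · rw [← map_one (algebraMap k A), hξ.algebraMap_eq]; rfl
        · simp] at h1
    exact eq_neg_of_add_eq_zero_left h1
  rw [map_orbC hM, pd_map_mul hξ, pd_map_mul hξ, hc, hc', mul_zero, add_zero, map_counit hM, mul_one, hS,
    show ((M.map (HopfAlgebra.antipodeAlgHom k A) * (M.map h).map (algebraMap k A)).map (Bialgebra.counitAlgHom k A)) =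
      M.map h from by
      rw [← AlgHom.mapMatrix_apply, map_mul, AlgHom.mapMatrix_apply, AlgHom.mapMatrix_apply, map_antipode_counit hM,
        hc', one_mul],
    neg_mul]
  abel

section Alg

variable [IsAlgClosed k] [CharZero k] [Algebra.FiniteType k A]

variable (M) in
/-- The Lie algebra, as matrices. -/
def PM : Submodule k (Matrix (Fin d) (Fin d) k) where
  carrier := {X | ∃ ξ : A →ₗ[k] k, LunaNhd.IsPD ξ ∧ M.map ξ = X}
  add_mem' := by
    rintro _ _ ⟨ξ, hξ, rfl⟩ ⟨η, hη, rfl⟩
    refine ⟨ξ + η, fun a b => ?_, Matrix.ext fun i j => rfl⟩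
    simp only [LinearMap.add_apply, hξ a b, hη a b]; ring
  zero_mem' := ⟨0, fun a b => by simp, Matrix.ext fun i j => rfl⟩
  smul_mem' := by
    rintro c _ ⟨ξ, hξ, rfl⟩
    refine ⟨c • ξ, fun a b => ?_, Matrix.ext fun i j => rfl⟩
    simp only [LinearMap.smul_apply, hξ a b, smul_eq_mul]; ring

omit [IsAlgClosed k] [CharZero k] [Algebra.FiniteType k A] in
theorem eq_zero_of_gen (hgen : Algebra.adjoin k (Set.range fun p : Fin d × Fin d => M p.1 p.2) = ⊤)
    {h : A →ₐ[k] k} {θ : A →ₗ[k] k} (hθ : ∀ a b, θ (a * b) = θ a * h b + h a * θ b) (hz : M.map θ = 0) (a : A) :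
    θ a = 0 := by
  have h1 : θ 1 = 0 := by
    have := hθ 1 1
    simp only [mul_one, (_root_.map_one h), one_mul] at this
    exact left_eq_add.1 this
  have ha : a ∈ Algebra.adjoin k (Set.range fun p : Fin d × Fin d => M p.1 p.2) := hgen ▸ Algebra.mem_top
  induction ha using Algebra.adjoin_induction with
  | mem x hx => obtain ⟨⟨i, j⟩, rfl⟩ := hx; exact congrFun (congrFun hz i) j
  | algebraMap c => rw [Algebra.algebraMap_eq_smul_one, map_smul, h1, smul_zero]
  | add x y _ _ hx hy => rw [map_add, hx, hy, add_zero]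
  | mul x y _ _ hx hy => rw [hθ, hx, hy, zero_mul, mul_zero, add_zero]

/-- A tangent vector of the zero locus of `q` is tangent to the conjugacy class. -/
theorem exists_pd_of_tangent (hM : IsMult k M)
    (hgen : Algebra.adjoin k (Set.range fun p : Fin d × Fin d => M p.1 p.2) = ⊤)
    {q : Polynomial k} (hq : Squarefree q) {h : A →ₐ[k] k} (hs : Polynomial.aeval (M.map h) q = 0)
    {θ : A →ₗ[k] k} (hθ : ∀ a b, θ (a * b) = θ a * h b + h a * θ b) (hθJ : ∀ a ∈ JI M q, θ a = 0) :
    ∃ ξ : A →ₗ[k] k, LunaNhd.IsPD ξ ∧ ∀ a, θ a = ξ (orbC h a) := by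
  let s := M.map h
  let h' : A →ₐ[k] k := ((toConv h)⁻¹ : WithConv (A →ₐ[k] k)).ofConv
  let si := M.map h'
  have h1 : si * s = 1 := hM.map_inv_mul (toConv h)
  have h2 : s * si = 1 := hM.map_mul_inv (toConv h)
  have hh' : toConv h' * toConv h = 1 := inv_mul_cancel (toConv h)
  have hh : toConv h * toConv h' = 1 := mul_inv_cancel (toConv h)
  have hlT : M.map (LunaNhd.lT h') = si.map (algebraMap k A) * M := Matrix.ext fun i j => by
    refine LunaNhd.eq_of_forall_pt (k := k) fun p => ?_
    rw [Matrix.map_apply, LunaNhd.apply_lT]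
    have e := congrFun (congrFun (hM.map_mul (toConv h') (toConv p)) i) j
    rw [Matrix.map_apply] at e
    rw [e, Matrix.mul_apply, Matrix.mul_apply, map_sum]
    exact Finset.sum_congr rfl fun l _ => by simp [si]
  have hε : ∀ a, Coalgebra.counit (R := k) a = h (LunaNhd.lT h' a) := fun a => by
    rw [LunaNhd.apply_lT, hh']; simp [AlgHom.convOne_def]
  have hmem : si * M.map θ ∈ PM M := by
    refine ⟨θ ∘ₗ (LunaNhd.lT h').toLinearMap, fun a b => ?_, ?_⟩
    · simp only [LinearMap.comp_apply, AlgHom.toLinearMap_apply, map_mul, hθ, hε]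
    · ext i j
      show θ ((M.map (LunaNhd.lT h')) i j) = _
      rw [hlT, Matrix.mul_apply, Matrix.mul_apply, map_sum]
      exact Finset.sum_congr rfl fun l _ => by rw [Matrix.map_apply, Matrix.map_apply, ← Algebra.smul_def, map_smul, smul_eq_mul]
  have hst : ∀ X ∈ PM M, si * X * s ∈ PM M := by
    rintro _ ⟨ξ, hξ, rfl⟩
    let c : A →ₐ[k] A := (EqZMT.transl k A h).comp (LunaNhd.lT h')
    have hc : ∀ (p : A →ₐ[k] k) (a : A), p (c a) = (toConv h' * toConv p * toConv h).ofConv a := fun p a => by
      show p (EqZMT.transl k A h (LunaNhd.lT h' a)) = _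
      rw [LunaNhd.apply_transl, LunaNhd.apply_lT, toConv_ofConv, mul_assoc]
    have hcε : ∀ a, Coalgebra.counit (R := k) (c a) = Coalgebra.counit (R := k) a := fun a => by
      rw [← Bialgebra.counitAlgHom_apply, hc, show toConv (Bialgebra.counitAlgHom k A) = (1 : WithConv (A →ₐ[k] k)) from by
        ext b; simp [AlgHom.convOne_def], mul_one, hh']
      simp [AlgHom.convOne_def]
    have hcM : M.map c = si.map (algebraMap k A) * M * s.map (algebraMap k A) := Matrix.ext fun i j => by
      refine LunaNhd.eq_of_forall_pt (k := k) fun p => ?_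
      rw [Matrix.map_apply, hc]
      have e : M.map (toConv h' * toConv p * toConv h).ofConv =
          (si.map (algebraMap k A) * M * s.map (algebraMap k A)).map p := by
        rw [hM.map_mul, hM.map_mul]
        show _ = p.mapMatrix (si.map (algebraMap k A) * M * s.map (algebraMap k A))
        rw [_root_.map_mul, _root_.map_mul]
        congr 1
        · congr 1
          exact Matrix.ext fun a b => by simp [si]
        · exact Matrix.ext fun a b => by simp [s]
      exact congrFun (congrFun e i) j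
    refine ⟨ξ ∘ₗ c.toLinearMap, fun a b => ?_, ?_⟩
    · simp only [LinearMap.comp_apply, AlgHom.toLinearMap_apply, map_mul, hξ (c a) (c b), hcε]
    · ext i j
      show ξ ((M.map c) i j) = _
      rw [hcM]
      simp only [Matrix.mul_apply, Matrix.map_apply, Finset.sum_mul, map_sum]
      refine Finset.sum_congr rfl fun l _ => Finset.sum_congr rfl fun m _ => ?_
      rw [← Algebra.smul_def, mul_comm, ← Algebra.smul_def, map_smul, map_smul, smul_eq_mul, smul_eq_mul]
      ring
  obtain ⟨x₁, -, y, ⟨η, hη, hηy⟩, hx₁, hdec⟩ := exists_decomp hq hs h1 (PM M) hst hmem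
  let θ' : A →ₗ[k] k := θ + η ∘ₗ (orbC h).toLinearMap
  have hθ' : ∀ a b, θ' (a * b) = θ' a * h b + h a * θ' b := fun a b => by
    simp only [θ', LinearMap.add_apply, LinearMap.comp_apply, AlgHom.toLinearMap_apply, hθ, map_mul,
      hη (orbC h a) (orbC h b), counit_orbC]
    ring
  have hΘ : M.map θ' = s * x₁ := by
    have e : M.map θ' = M.map θ + (M.map (orbC h)).map η := Matrix.ext fun i j => rfl
    have e1 : M.map θ = s * x₁ + (y * s - s * y) := by
      rw [show M.map θ = s * (si * M.map θ) from by rw [← mul_assoc, h2, one_mul], hdec, mul_add, mul_sub,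
        ← mul_assoc s (si * y), ← mul_assoc s si, h2, one_mul]
    rw [e, pd_map_orbC hM hη, e1, hηy]
    abel
  have hcomm : Commute s (s * x₁) := by
    have h3 : x₁ * s = s * x₁ := by
      conv_rhs => rw [← hx₁, ← mul_assoc, ← mul_assoc, h2, one_mul]
    show s * (s * x₁) = s * x₁ * s
    rw [mul_assoc s x₁ s, h3]
  have hJ' : ∀ a ∈ JI M q, θ' a = 0 := fun a ha => by
    simp only [θ', LinearMap.add_apply, LinearMap.comp_apply, AlgHom.toLinearMap_apply, hθJ a ha, zero_add,
      ← apply_Dv]
    exact (apply_JI q h).2 hs _ (Dv_mem (fun b hb => ad_JI hM q hb) η ha)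
  have hpoly : ∀ p : Polynomial k, (Polynomial.aeval M p).map θ' =
      Polynomial.aeval s (Polynomial.derivative p) * (s * x₁) := by
    intro p
    induction p using Polynomial.induction_on' with
    | add p r hp hr => rw [map_add, map_add, map_add, add_mul, ← hp, ← hr]; ext i j; simp
    | monomial n c =>
      rw [Polynomial.derivative_monomial, Polynomial.aeval_monomial, Polynomial.aeval_monomial, ← Algebra.smul_def,
        ← Algebra.smul_def, show (c • M ^ n).map θ' = c • (M ^ n).map θ' from Matrix.ext fun i j => by simp,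
        smul_mul_assoc, mul_smul]
      congr 1
      induction n with
      | zero =>
        rw [Nat.cast_zero, zero_smul, pow_zero]
        ext i j
        rw [Matrix.map_apply, Matrix.one_apply, Matrix.zero_apply]
        have h10 : θ' 1 = 0 := by
          have := hθ' 1 1
          simp only [mul_one, (_root_.map_one h), one_mul] at this
          exact left_eq_add.1 this
        split_ifs
        · exact h10
        · exact map_zero _
      | succ n ih =>
        have e : (M ^ (n + 1)).map θ' = (M ^ n).map θ' * s + (s ^ n) * (s * x₁) := by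
          rw [pow_succ, ← hΘ, show s ^ n = (M ^ n).map h from (map_pow h.mapMatrix M n).symm]
          ext i j
          simp only [Matrix.map_apply, Matrix.add_apply, Matrix.mul_apply, map_sum, ← Finset.sum_add_distrib, s]
          exact Finset.sum_congr rfl fun l _ => hθ' _ _
        rw [e, ih, smul_mul_assoc, mul_assoc, ← hcomm.eq, Nat.add_sub_cancel]
        rcases Nat.eq_zero_or_pos n with hn | hn
        · subst hn; simp
        rw [← mul_assoc (s ^ (n - 1)), ← pow_succ, Nat.sub_add_cancel hn, Nat.cast_succ, add_smul, one_smul]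
  have hz : s * x₁ = 0 := by
    have h0 : Polynomial.aeval s (Polynomial.derivative q) * (s * x₁) = 0 := by
      rw [← hpoly q]
      exact Matrix.ext fun i j => hJ' _ (mem_JI q i j)
    obtain ⟨u', v', huv⟩ := PerfectField.separable_iff_squarefree.2 hq
    have h4 := congrArg (Polynomial.aeval s) huv
    rw [map_add, _root_.map_mul, _root_.map_mul, hs, mul_zero, zero_add, _root_.map_one] at h4
    rw [← one_mul (s * x₁), ← h4, mul_assoc, h0, mul_zero]
  refine ⟨-η, fun a b => ?_, fun a => ?_⟩
  · simp only [LinearMap.neg_apply, hη a b]; ring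
  · have := eq_zero_of_gen hgen hθ' (hΘ.trans hz) a
    exact eq_neg_of_add_eq_zero_left this

/-- Near a point of the zero locus of `q`, the zero locus is the conjugacy class. -/
theorem exists_nhd (hM : IsMult k M)
    (hgen : Algebra.adjoin k (Set.range fun p : Fin d × Fin d => M p.1 p.2) = ⊤)
    {q : Polynomial k} (hq : Squarefree q) {h : A →ₐ[k] k} (hs : Polynomial.aeval (M.map h) q = 0) :
    ∃ s : A, h s ≠ 0 ∧ ∀ f ∈ RingHom.ker (orbC h), s * f ∈ JI M q := by
  classical
  haveI : IsNoetherianRing A := Algebra.FiniteType.isNoetherianRing k A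
  let J := JI M q
  have hhJ : ∀ a ∈ J, h a = 0 := (apply_JI q h).2 hs
  have hD : ∀ (ξ : A →ₗ[k] k), ∀ a ∈ J, Dv ξ a ∈ J := fun ξ a ha => Dv_mem (k := k) (fun b hb => ad_JI hM q hb) ξ ha
  let m : Ideal A := RingHom.ker h
  let bas := Module.finBasis k (PM (k := k) M)
  choose ξ hξ hξM using fun l => (bas l).2
  -- a function with vanishing derivatives lies in `J + m²`
  have hcot : ∀ a ∈ m, (∀ l, ξ l (orbC h a) = 0) → a ∈ J ⊔ m ^ 2 := by
    intro a ha hl
    by_contra hn
    obtain ⟨φ, hφ, hφ0⟩ := Submodule.exists_dual_map_eq_bot_of_notMem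
      (p := (J ⊔ m ^ 2).restrictScalars k) hn inferInstance
    have hφm : ∀ c ∈ J ⊔ m ^ 2, φ c = 0 := fun c hc =>
      (Submodule.mem_bot k).1 (hφ0 ▸ Submodule.mem_map_of_mem (f := φ) hc)
    let θ : A →ₗ[k] k := φ ∘ₗ (LinearMap.id - Algebra.linearMap k A ∘ₗ h.toLinearMap)
    have hθe : ∀ c, θ c = φ (c - algebraMap k A (h c)) := fun c => rfl
    have hmem : ∀ c, c - algebraMap k A (h c) ∈ m := fun c => by simp [m, RingHom.mem_ker]
    have hθ : ∀ c e, θ (c * e) = θ c * h e + h c * θ e := by
      intro c e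
      have e1 : c * e - algebraMap k A (h (c * e)) = (c - algebraMap k A (h c)) * (e - algebraMap k A (h e)) +
          (h e • (c - algebraMap k A (h c)) + h c • (e - algebraMap k A (h e))) := by
        rw [_root_.map_mul, _root_.map_mul, Algebra.smul_def, Algebra.smul_def]; ring
      rw [hθe, e1, map_add, map_add, map_smul, map_smul,
        hφm _ (Ideal.mem_sup_right (by rw [pow_two]; exact Ideal.mul_mem_mul (hmem c) (hmem e))), zero_add, hθe, hθe]
      simp [mul_comm]
    obtain ⟨ζ, hζ, hζθ⟩ := exists_pd_of_tangent hM hgen hq hs hθ fun c hc => by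
      rw [hθe, hhJ c hc, _root_.map_zero, sub_zero]; exact hφm c (Ideal.mem_sup_left hc)
    refine hφ ?_
    have e1 : φ a = θ a := by rw [hθe, show h a = 0 from ha, _root_.map_zero, sub_zero]
    rw [e1, hζθ]
    -- expand in the basis
    let cf := bas.repr ⟨M.map ζ, ζ, hζ, rfl⟩
    let ζ' : A →ₗ[k] k := ∑ l, cf l • ξ l
    have hzero : ∀ c, (ζ - ζ') c = 0 := by
      refine eq_zero_of_gen hgen (h := Bialgebra.counitAlgHom k A) (fun c e => ?_) ?_
      · simp only [ζ', LinearMap.sub_apply, LinearMap.sum_apply, LinearMap.smul_apply, smul_eq_mul,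
          Bialgebra.counitAlgHom_apply, hζ c e, fun l => hξ l c e, mul_add, Finset.sum_add_distrib, sub_mul, mul_sub,
          Finset.mul_sum, Finset.sum_mul]
        simp only [mul_assoc, mul_left_comm]
        ring
      · have e2 := congrArg (fun X : PM (k := k) M => (X : Matrix (Fin d) (Fin d) k)) (bas.sum_repr ⟨M.map ζ, ζ, hζ, rfl⟩)
        simp only [Submodule.coe_sum, Submodule.coe_smul, ← hξM] at e2
        ext i j
        have e3 := congrFun (congrFun e2 i) j
        simp only [Matrix.sum_apply, Matrix.smul_apply, Matrix.map_apply] at e3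
        simp only [ζ', Matrix.map_apply, LinearMap.sub_apply, LinearMap.sum_apply, LinearMap.smul_apply,
          Matrix.zero_apply, cf, e3, sub_self]
    have := hzero (orbC h a)
    rw [LinearMap.sub_apply, sub_eq_zero] at this
    rw [this]
    simp [ζ', hl]
  -- coordinates along the orbit
  let Φ : (m.restrictScalars k) →ₗ[k] (Fin (Module.finrank k (PM (k := k) M)) → k) :=
    LinearMap.pi fun l => (ξ l ∘ₗ (orbC h).toLinearMap) ∘ₗ (m.restrictScalars k).subtype
  obtain ⟨σ, hσ⟩ := Φ.rangeRestrict.exists_rightInverse_of_surjective Φ.range_rangeRestrict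
  obtain ⟨Ψ, hΨ⟩ := LinearMap.exists_extend σ
  let y : Fin (Module.finrank k (PM (k := k) M)) → A := fun l => (Ψ (Pi.single l 1) : A)
  have hy : ∀ l, y l ∈ m := fun l => (Ψ (Pi.single l 1)).2
  have hbase : ∀ a ∈ m, (∑ l, y l * Dv (ξ l) a) - a ∈ J ⊔ m ^ 2 := by
    intro a ha
    let v := Φ ⟨a, ha⟩
    have hv : Φ (Ψ v) = v := by
      have e1 := LinearMap.congr_fun hΨ ⟨v, LinearMap.mem_range_self Φ _⟩
      simp only [LinearMap.comp_apply, Submodule.subtype_apply] at e1
      rw [e1]
      exact congrArg Subtype.val (LinearMap.congr_fun hσ ⟨v, LinearMap.mem_range_self Φ _⟩)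
    have h1 : a - (Ψ v : A) ∈ J ⊔ m ^ 2 := hcot _ (m.sub_mem ha (Ψ v).2) fun l => by
      have := congrFun hv l
      rw [map_sub, map_sub, sub_eq_zero]
      exact this.symm
    have h2 : (Ψ v : A) = ∑ l, algebraMap k A (v l) * y l := by
      conv_lhs => rw [pi_eq_sum_univ' v, map_sum, Submodule.coe_sum]
      exact Finset.sum_congr rfl fun l _ => by rw [map_smul, Submodule.coe_smul, Algebra.smul_def]
    have h3 : ∀ l, y l * Dv (ξ l) a - algebraMap k A (v l) * y l ∈ m ^ 2 := fun l => by
      rw [show y l * Dv (ξ l) a - algebraMap k A (v l) * y l = y l * (Dv (ξ l) a - algebraMap k A (v l)) from by ring,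
        pow_two]
      refine Ideal.mul_mem_mul (hy l) ?_
      show h _ = 0
      rw [map_sub, AlgHom.commutes, apply_Dv]
      exact sub_self _
    have := Ideal.sub_mem _ (Ideal.mem_sup_right (S := J) (Ideal.sum_mem (t := Finset.univ) _ fun l _ => h3 l)) h1
    rw [Finset.sum_sub_distrib, ← h2, sub_sub_sub_cancel_right] at this
    exact this
  have hEuler : ∀ N : ℕ, ∀ z ∈ m ^ N, (∑ l, y l * Dv (ξ l) z) - N • z ∈ J ⊔ m ^ (N + 1) := by
    intro N
    induction N with
    | zero =>
      intro z _
      simp only [zero_smul, sub_zero, zero_add, pow_one]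
      exact Ideal.mem_sup_right (Ideal.sum_mem _ fun l _ => Ideal.mul_mem_right _ _ (hy l))
    | succ N ih =>
      intro z hz
      rw [pow_succ] at hz
      refine Submodule.mul_induction_on hz (fun w hw a ha => ?_) fun u v hu hv => ?_
      · have e : (∑ l, y l * Dv (ξ l) (w * a)) - (N + 1) • (w * a) =
            ((∑ l, y l * Dv (ξ l) w) - N • w) * a + w * ((∑ l, y l * Dv (ξ l) a) - a) := by
          simp only [fun l => Dv_mul (hξ l) w a, mul_add, Finset.sum_add_distrib, sub_mul, mul_sub, Finset.sum_mul,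
            Finset.mul_sum, add_smul, one_smul, smul_mul_assoc]
          simp only [mul_assoc, mul_left_comm]
          abel
        rw [e]
        refine Ideal.add_mem _ ?_ ?_
        · obtain ⟨j, hj, b, hb, ejb⟩ := Submodule.mem_sup.1 (ih w hw)
          rw [← ejb, add_mul]
          refine Ideal.add_mem _ (Ideal.mem_sup_left (J.mul_mem_right _ hj)) (Ideal.mem_sup_right ?_)
          rw [pow_succ]; exact Ideal.mul_mem_mul hb ha
        · obtain ⟨j, hj, b, hb, ejb⟩ := Submodule.mem_sup.1 (hbase a ha)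
          rw [← ejb, mul_add]
          refine Ideal.add_mem _ (Ideal.mem_sup_left (J.mul_mem_left _ hj)) (Ideal.mem_sup_right ?_)
          rw [show N + 1 + 1 = N + 2 from rfl, pow_add]; exact Ideal.mul_mem_mul hw hb
      · have := Ideal.add_mem _ hu hv
        simp only [smul_add, map_add, mul_add, Finset.sum_add_distrib]
        rwa [add_sub_add_comm]
  have hind : ∀ N : ℕ, ∀ f ∈ RingHom.ker (orbC h), f ∈ J ⊔ m ^ N := by
    intro N
    induction N with
    | zero => intro f _; simp
    | succ N ih =>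
      intro f hf
      rcases Nat.eq_zero_or_pos N with hN | hN
      · subst hN
        refine Ideal.mem_sup_right ?_
        rw [zero_add, pow_one]
        show h f = 0
        rw [← counit_orbC, show orbC h f = 0 from hf, _root_.map_zero]
      obtain ⟨j, hj, z, hz, rfl⟩ := Submodule.mem_sup.1 (ih f hf)
      refine Ideal.add_mem _ (Ideal.mem_sup_left hj) ?_
      have hDz : ∀ l, y l * Dv (ξ l) z ∈ J ⊔ m ^ (N + 1) := fun l => by
        have hk : Dv (ξ l) (j + z) ∈ RingHom.ker (orbC h) := by
          refine LunaNhd.eq_of_forall_pt (k := k) fun p => ?_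
          rw [_root_.map_zero, apply_orbC, apply_Dv]
          refine (congrArg (ξ l) (LunaNhd.eq_of_forall_pt (k := k) fun r => ?_)).trans (_root_.map_zero _)
          have e := congrArg (toConv p * toConv r).ofConv (show orbC h (j + z) = 0 from hf)
          rw [apply_orbC, _root_.map_zero, toConv_ofConv] at e
          rw [apply_orbC, _root_.map_zero, toConv_ofConv, ← e]
          simp only [mul_inv_rev, toConv_ofConv, mul_assoc]
        obtain ⟨j', hj', b, hb, ejb⟩ := Submodule.mem_sup.1 (ih _ hk)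
        rw [show Dv (ξ l) z = (j' - Dv (ξ l) j) + b from by rw [map_add] at ejb; linear_combination -ejb, mul_add]
        refine Ideal.add_mem _ (Ideal.mem_sup_left (J.mul_mem_left _ (J.sub_mem hj' (hD _ j hj)))) (Ideal.mem_sup_right ?_)
        rw [pow_succ']; exact Ideal.mul_mem_mul (hy l) hb
      have h1 := Ideal.sub_mem _ (Ideal.sum_mem _ fun l (_ : l ∈ Finset.univ) => hDz l) (hEuler N z hz)
      rw [sub_sub_cancel] at h1
      have hN' : (N : k) ≠ 0 := Nat.cast_ne_zero.2 (by omega)
      have h2 := ((J ⊔ m ^ (N + 1)).restrictScalars k).smul_mem ((N : k)⁻¹) h1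
      rwa [← Nat.cast_smul_eq_nsmul k N z, smul_smul, inv_mul_cancel₀ hN', one_smul] at h2
  have hloc : ∀ f ∈ RingHom.ker (orbC h), ∃ s : A, h s ≠ 0 ∧ s * f ∈ J := by
    intro f hf
    let π := Ideal.Quotient.mk J
    have hmem : π f ∈ (⨅ i : ℕ, (m.map π) ^ i • ⊤ : Submodule (A ⧸ J) (A ⧸ J)) := by
      refine (Submodule.mem_iInf _).2 fun i => ?_
      obtain ⟨j, hj, z, hz, e⟩ := Submodule.mem_sup.1 (hind i f hf)
      rw [smul_eq_mul, Ideal.mul_top, ← Ideal.map_pow, ← e, _root_.map_add, show π j = 0 from Ideal.Quotient.eq_zero_iff_mem.2 hj,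
        zero_add]
      exact Ideal.mem_map_of_mem _ hz
    obtain ⟨⟨r, hr⟩, hrf⟩ := (Ideal.mem_iInf_smul_pow_eq_bot_iff _ _).1 hmem
    obtain ⟨r', hr', rfl⟩ := (Ideal.mem_map_iff_of_surjective π Ideal.Quotient.mk_surjective).1 hr
    refine ⟨1 - r', ?_, ?_⟩
    · rw [map_sub, _root_.map_one, show h r' = 0 from hr', sub_zero]; exact one_ne_zero
    · rw [← Ideal.Quotient.eq_zero_iff_mem, sub_mul, one_mul, map_sub, _root_.map_mul]
      show π f - π r' * π f = 0
      rw [show π r' * π f = π f from hrf, sub_self]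
  obtain ⟨t, ht⟩ := (IsNoetherian.noetherian (RingHom.ker (orbC h)) : (RingHom.ker (orbC h)).FG)
  choose s hs' hsJ using fun f : t => hloc f.1 (ht ▸ Submodule.subset_span f.2)
  refine ⟨∏ f, s f, ?_, fun f hf => ?_⟩
  · rw [map_prod]
    exact Finset.prod_ne_zero_iff.2 fun f _ => hs' f
  · rw [← ht] at hf
    induction hf using Submodule.span_induction with
    | mem f hf =>
      obtain ⟨c, hc⟩ := Finset.dvd_prod_of_mem s (Finset.mem_univ ⟨f, hf⟩)
      rw [hc, show s ⟨f, hf⟩ * c * f = c * (s ⟨f, hf⟩ * f) from by ring]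
      exact J.mul_mem_left _ (hsJ ⟨f, hf⟩)
    | zero => rw [mul_zero]; exact J.zero_mem
    | add a b _ _ ha hb => rw [mul_add]; exact J.add_mem ha hb
    | smul r a _ ha => rw [smul_eq_mul, mul_left_comm]; exact J.mul_mem_left _ ha

/-- The conjugacy class of a semisimple point is closed. -/
theorem isClosedPt_cpt (hM : IsMult k M)
    (hgen : Algebra.adjoin k (Set.range fun p : Fin d × Fin d => M p.1 p.2) = ⊤)
    {q : Polynomial k} (hq : Squarefree q) {g : A →ₐ[k] k} (hg : Polynomial.aeval (M.map g) q = 0) :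
    StableLocus.IsClosedPt A (cpt g) := by
  obtain ⟨y, hgy, hmin⟩ := ClosedOrbit.exists_minimal_closure (A := A) (cpt g)
  let h := gpt y
  have hconj : ∀ p : WithConv (A →ₐ[k] k), Polynomial.aeval (M.map (p⁻¹ * toConv g * p).ofConv) q = 0 := fun p => by
    rw [hM.map_mul, hM.map_mul, aeval_conj_eq (hM.map_inv_mul p) (hM.map_mul_inv p)]
    simp [hg]
  have hgJ : ∀ a ∈ JI M q, orbC g a = 0 := fun a ha => LunaNhd.eq_of_forall_pt (k := k) fun p => by
    rw [apply_orbC, _root_.map_zero]; exact (apply_JI q _).2 (hconj _) a ha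
  have hhJ : ∀ a ∈ JI M q, h a = 0 := fun a ha => hgy (hgJ a ha)
  obtain ⟨s, hs, hsJ⟩ := exists_nhd hM hgen hq ((apply_JI q h).1 hhJ)
  obtain ⟨p, hp⟩ : ∃ p : A →ₐ[k] k, p (orbC g s) ≠ 0 := by
    by_contra hc
    push Not at hc
    exact hs (hgy (show orbC g s = 0 from LunaNhd.eq_of_forall_pt (k := k) fun p => by rw [hc p, _root_.map_zero]))
  have hcl : GLin.InOrbitClosure k A y (GLin.actPt k p (cpt g)) := fun f hf => by
    have h1 : p (orbC g (s * (show A from f))) = 0 := by rw [hgJ _ (hsJ f hf), _root_.map_zero]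
    rw [_root_.map_mul, _root_.map_mul] at h1
    exact (mul_eq_zero.1 h1).resolve_left hp
  intro z hz
  have hyz : GLin.InOrbitClosure k A y z := ClosedOrbit.inOrbitClosure_trans
    (ClosedOrbit.inOrbitClosure_trans hcl (ClosedOrbit.inOrbitClosure_of_actPt p (cpt g))) hz
  obtain ⟨u, hu⟩ := hmin z hyz
  obtain ⟨v, hv⟩ := hmin _ hcl
  refine ⟨(toConv p * toConv (v.comp (HopfAlgebra.antipodeAlgHom k A)) * toConv u).ofConv, ?_⟩
  have e1 : y = GLin.actPt k (v.comp (HopfAlgebra.antipodeAlgHom k A)) (GLin.actPt k p (cpt g)) := by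
    rw [hv]; exact (ClosedOrbit.exists_actPt_symm v y)
  rw [hu, e1, ClosedOrbit.actPt_actPt, ClosedOrbit.actPt_actPt]
  simp only [toConv_ofConv, mul_assoc]

end Alg

end Groth.Agent.ConjSs
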