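import Groth.Agent.LieRedLib.LinRed
import Groth.Agent.LieKolchin.Generated
import Groth.Agent.LieKolchin.Points
import Groth.Agent.LunaNhdLib.Ambient
import Groth.Agent.S16709
import Mathlib

/-!
# Groups whose irreducible representations are jointly faithful are linearly reductive, in characteristic zero

The group need not be connected: the identity component is treated with the Lie algebra, and the component group is
averaged over.
-/

set_option autoImplicit false
set_option maxHeartbeats 1000000
set_option backward.isDefEq.respectTransparency false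
set_option backward.isDefEq.respectTransparency.types false
set_option linter.style.haveILetI false

universe u

open TensorProduct WithConv

noncomputable section

namespace Groth.Agent.ConjSs

open Groth.Agent.Comodule Groth.Agent.LieKolchin Groth.Agent.LieRed

variable {k : Type u} [Field k] [IsAlgClosed k] [CharZero k] {A : Type u} [CommRing A] [HopfAlgebra k A]
  [Algebra.FiniteType k A]

variable {V : Type u} [AddCommGroup V] [Module k V] [HopfRep.Comod k A V]

omit [IsAlgClosed k] [CharZero k] [Algebra.FiniteType k A] in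
theorem apply_coefMap' (g : A →ₐ[k] k) (φ : V →ₗ[k] k) (v : V) :
    g (coefMap (C := A) φ v) = φ (actHom k A V (toConv g) v) :=
  LieRed.apply_coefMap g.toLinearMap φ v

/-- A subspace stable under all rational points is a subcomodule. -/
theorem isSubcomod_of_points (P : Submodule k V)
    (h : ∀ g : A →ₐ[k] k, ∀ v ∈ P, actHom k A V (toConv g) v ∈ P) : HopfRep.IsSubcomod (k := k) (A := A) P := by
  haveI : _root_.IsReduced A := HopfGr.isReduced_charZero (k := k)
  refine isSubcomod_iff.mpr fun f v hv => ?_
  by_contra hn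
  obtain ⟨φ, hφ, hφ0⟩ := Submodule.exists_dual_map_eq_bot_of_notMem hn inferInstance
  have hP : ∀ w ∈ P, φ w = 0 := fun w hw =>
    (Submodule.mem_bot k).1 (hφ0 ▸ Submodule.mem_map_of_mem (f := φ) hw)
  have hc : coefMap (C := A) φ v = 0 := eq_zero_of_forall_point (k := k) fun g => by
    rw [apply_coefMap']; exact hP _ (h g v hv)
  refine hφ ?_
  rw [smul_def, ← LieRed.apply_coefMap, hc, map_zero]

/-- A vector fixed by all rational points is fixed. -/
theorem mem_fixedPts_of_points {v : V} (h : ∀ g : A →ₐ[k] k, actHom k A V (toConv g) v = v) :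
    v ∈ HopfRep.fixedPts k A V := by
  haveI : _root_.IsReduced A := HopfGr.isReduced_charZero (k := k)
  show HopfRep.Comod.coact (k := k) (A := A) v = v ⊗ₜ[k] (1 : A)
  refine ext_lcon fun φ => ?_
  rw [← coefMap_apply, lcon_tmul, ← sub_eq_zero]
  refine eq_zero_of_forall_point (k := k) fun g => ?_
  rw [map_sub, apply_coefMap', h, map_smul, map_one, smul_eq_mul, mul_one, sub_self]

omit [IsAlgClosed k] [CharZero k] [Algebra.FiniteType k A] in
theorem actHom_mem {P : Submodule k V} (hP : HopfRep.IsSubcomod (k := k) (A := A) P) (g : WithConv (A →ₐ[k] k))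
    {v : V} (hv : v ∈ P) : actHom k A V g v ∈ P := by
  rw [actHom_eq_smul]; exact isSubcomod_iff.mp hP _ v hv

omit [IsAlgClosed k] [CharZero k] [Algebra.FiniteType k A] in
/-- A point of the common kernel fixes every simple representation. -/
theorem simple_fixed (hs : HopfRep.IsSimpleComod k A V) {n : A →ₐ[k] k}
    (hn : ∀ a ∈ covIdeal k A, n a = Coalgebra.counit (R := k) a) (v : V) : actHom k A V (toConv n) v = v := by
  haveI := isSimpleComod_iff.mp hs
  haveI : Module.Finite k V := finite_of_isSimple (C := A)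
  refine sub_eq_zero.1 ((Module.forall_dual_apply_eq_zero_iff k _).mp fun φ => ?_)
  rw [map_sub, sub_eq_zero, ← apply_coefMap', ← counit_coefMap (C := A) φ v]
  let F : V →ₗ[WithConv (A →ₗ[k] k)] A := coefMap (C := A) φ
  show n (F v) = Coalgebra.counit (R := k) (F v)
  by_cases h0 : F = 0
  · simp [h0]
  let S : Submodule k A := (LinearMap.range F).restrictScalars k
  have hS : HopfRep.IsSubcomod (k := k) (A := A) S := isSubcomod_restrictScalars _
  haveI : Module.Finite k S := Module.Finite.of_surjective (F.restrictScalars k).rangeRestrict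
    (LinearMap.surjective_rangeRestrict _)
  have hc : IsCover k A ⊥ S :=
    { subM := isSubcomod_bot
      subW := hS
      fin := inferInstance
      lt := bot_lt_iff_ne_bot.2 fun e => h0 (LinearMap.ext fun w => by
        have : F w ∈ S := ⟨w, rfl⟩
        rw [e, Submodule.mem_bot] at this
        exact this)
      adj := fun P hP _ hPS => by
        rcases IsSimpleOrder.eq_bot_or_eq_top ((toDual P hP).comap F) with h | h
        · refine Or.inl ((Submodule.eq_bot_iff P).2 fun p hp => ?_)
          obtain ⟨w, rfl⟩ := hPS hp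
          have : w ∈ (toDual P hP).comap F := hp
          rw [h, Submodule.mem_bot] at this
          rw [this, map_zero]
        · refine Or.inr (le_antisymm hPS ?_)
          rintro _ ⟨w, rfl⟩
          have : w ∈ (toDual P hP).comap F := h ▸ Submodule.mem_top
          exact this }
  have hg : coefMap (C := A) (Coalgebra.counit (R := k) (A := A)) (F v) -
      algebraMap k A (Coalgebra.counit (R := k) (F v)) ∈ covIdeal k A :=
    Ideal.subset_span ⟨⊥, S, hc, _, _, ⟨v, rfl⟩, fun m hm => by rw [(Submodule.mem_bot k).1 hm, map_zero], rfl⟩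
  have e : coefMap (C := A) (Coalgebra.counit (R := k) (A := A)) (F v) = F v := by
    rw [coefMap_apply, coact_regular, lcon_counit_comul]
  have := hn _ hg
  rw [e, map_sub, map_sub, AlgHom.commutes, Bialgebra.counit_algebraMap, Algebra.algebraMap_self, RingHom.id_apply,
    sub_self, sub_eq_zero] at this
  exact this

/-! ### The identity component -/

theorem isHopfIdeal_bot' : (⊥ : Ideal A).IsHopfIdeal k := by
  refine @Ideal.IsHopfIdeal.mk k A _ _ _ ⊥ ⟨fun x hx => ?_, fun x hx => ?_⟩ fun x hx => ?_
  · have : x = 0 := hx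
    rw [this, map_zero]
  · have : x = 0 := hx
    rw [this, map_zero, map_zero]
  · have : x = 0 := hx
    rw [this, map_zero]; exact Submodule.zero_mem _

variable (k A) in
/-- The ideal of the identity component. -/
abbrev cIdeal : Ideal A := Ideal.span (idemSet (k := k) (⊥ : Ideal A))

instance isHopfIdeal_cIdeal : (cIdeal k A).IsHopfIdeal k := by
  haveI := isHopfIdeal_bot' (k := k) (A := A)
  exact isHopfIdeal_idemSet ⊥

omit [IsAlgClosed k] [CharZero k] [Algebra.FiniteType k A] in
theorem mem_idemSet {t : A} : t ∈ idemSet (k := k) (⊥ : Ideal A) ↔ IsIdempotentElem t ∧ Coalgebra.counit (R := k) t = 0 := by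
  simp [idemSet, IsIdempotentElem, sub_eq_zero]

omit [IsAlgClosed k] [CharZero k] in
theorem noIdem_cIdeal : ∀ e : A ⧸ cIdeal k A, IsIdempotentElem e → e = 0 ∨ e = 1 := by
  haveI : IsNoetherianRing A := Algebra.FiniteType.isNoetherianRing k A
  have hK : IsIdempotentElem (cIdeal k A) := by
    refine le_antisymm Ideal.mul_le_left (Ideal.span_le.2 fun t ht => ?_)
    rw [SetLike.mem_coe, ← (mem_idemSet.1 ht).1.eq]
    exact Ideal.mul_mem_mul (Ideal.subset_span ht) (Ideal.subset_span ht)
  obtain ⟨ε, hε, hεK⟩ := (Ideal.isIdempotentElem_iff_of_fg _ (IsNoetherian.noetherian _)).1 hK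
  change cIdeal k A = Ideal.span {ε} at hεK
  have hmem : ∀ x, x ∈ cIdeal k A ↔ (1 - ε) * x = 0 := fun x => by
    rw [hεK, Ideal.mem_span_singleton']
    constructor
    · rintro ⟨c, rfl⟩
      rw [show (1 - ε) * (c * ε) = c * (ε - ε * ε) from by ring, hε.eq, sub_self, mul_zero]
    · intro h
      exact ⟨x, by linear_combination (-1 : A) * h⟩
  have h0 : Coalgebra.counit (R := k) ε = 0 := by
    have : cIdeal k A ≤ RingHom.ker (Bialgebra.counitAlgHom k A) := Ideal.span_le.2 fun t ht => (mem_idemSet.1 ht).2
    exact this (hεK ▸ Ideal.mem_span_singleton_self ε)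
  intro e he
  obtain ⟨f, rfl⟩ := Ideal.Quotient.mk_surjective e
  have hf : (1 - ε) * (f * f - f) = 0 := by
    rw [← hmem, ← Ideal.Quotient.eq_zero_iff_mem, map_sub, map_mul, he.eq, sub_self]
  let f' := (1 - ε) * f
  have hf' : IsIdempotentElem f' := by
    have h1 : (1 - ε) * (1 - ε) = 1 - ε := hε.one_sub.eq
    show f' * f' = f'
    linear_combination (f * f) * h1 + hf
  have hf'' : Ideal.Quotient.mk (cIdeal k A) f' = Ideal.Quotient.mk (cIdeal k A) f := by
    rw [Ideal.Quotient.eq, hmem]
    have h1 : (1 - ε) * (1 - ε) = 1 - ε := hε.one_sub.eq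
    linear_combination f * h1
  rw [← hf'']
  rcases IsIdempotentElem.iff_eq_zero_or_one.1 (hf'.map (Bialgebra.counitAlgHom k A)) with h | h
  · exact Or.inl (Ideal.Quotient.eq_zero_iff_mem.2 (Ideal.subset_span (mem_idemSet.2 ⟨hf', h⟩)))
  · refine Or.inr ?_
    rw [← map_one (Ideal.Quotient.mk (cIdeal k A)), Ideal.Quotient.eq, ← neg_sub, Submodule.neg_mem_iff]
    refine Ideal.subset_span (mem_idemSet.2 ⟨hf'.one_sub, ?_⟩)
    rw [map_sub, Bialgebra.counit_one, show Coalgebra.counit (R := k) f' = 1 from h, sub_self]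

variable (k A) in
/-- The points of the identity component. -/
abbrev G0 : Subgroup (WithConv (A →ₐ[k] k)) := ptsOf (k := k) (cIdeal k A)

theorem mem_G0 {x : WithConv (A →ₐ[k] k)} : x ∈ G0 k A ↔ ∀ t, IsIdempotentElem t → Coalgebra.counit (R := k) t = 0 → x.ofConv t = 0 := by
  constructor
  · exact fun h t h1 h2 => h t (Ideal.subset_span (mem_idemSet.2 ⟨h1, h2⟩))
  · intro h a ha
    have : cIdeal k A ≤ RingHom.ker x.ofConv := Ideal.span_le.2 fun t ht =>
      h t (mem_idemSet.1 ht).1 (mem_idemSet.1 ht).2
    exact this ha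

instance normal_G0 : (G0 k A).Normal := by
  refine ⟨fun y hy x => mem_G0.2 fun t ht ht0 => ?_⟩
  let c : A →ₐ[k] A := (EqZMT.transl k A (x⁻¹ : WithConv (A →ₐ[k] k)).ofConv).comp (LunaNhd.lT x.ofConv)
  have hc : ∀ (z : WithConv (A →ₐ[k] k)) (a : A), z.ofConv (c a) = (x * z * x⁻¹).ofConv a := by
    intro z a
    show z.ofConv (EqZMT.transl k A (x⁻¹ : WithConv (A →ₐ[k] k)).ofConv (LunaNhd.lT x.ofConv a)) = _
    rw [LunaNhd.apply_transl, LunaNhd.apply_lT]
    simp only [toConv_ofConv, mul_assoc]
  rw [← hc]
  refine mem_G0.1 hy (c t) (ht.map c) ?_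
  rw [← one_apply_eq, hc, mul_one, mul_inv_cancel, one_apply_eq]
  exact ht0

theorem finite_idem (k : Type u) [Field k] (A : Type u) [CommRing A] [Algebra k A] [Algebra.FiniteType k A] :
    Finite {t : A // IsIdempotentElem t} := by
  haveI : IsNoetherianRing A := Algebra.FiniteType.isNoetherianRing k A
  haveI : Finite (minimalPrimes A) := (minimalPrimes.finite_of_isNoetherianRing A).to_subtype
  classical
  refine Finite.of_injective (β := minimalPrimes A → Bool) (fun t p => decide ((t : A) ∈ p.1)) ?_
  rintro ⟨e, he⟩ ⟨f, hf⟩ h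
  have hiff : ∀ p ∈ minimalPrimes A, e ∈ p ↔ f ∈ p := fun p hp => by simpa using congrFun h ⟨p, hp⟩
  have key : ∀ {a b : A}, IsIdempotentElem a → IsIdempotentElem b →
      (∀ p ∈ minimalPrimes A, a ∈ p ↔ b ∈ p) → a * (1 - b) = 0 := by
    intro a b ha hb hab
    have h1 : a * (1 - b) ∈ sInf (minimalPrimes A) := Ideal.mem_sInf.2 fun {p} hp => by
      haveI := hp.1.1
      by_cases hap : a ∈ p
      · exact p.mul_mem_right _ hap
      · refine p.mul_mem_left _ ?_
        have hbp : b ∉ p := fun h => hap ((hab p hp).2 h)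
        exact (‹p.IsPrime›.mem_or_mem (show (1 - b) * b ∈ p by
          rw [sub_mul, one_mul, hb.eq, sub_self]; exact p.zero_mem)).resolve_right hbp
    rw [show sInf (minimalPrimes A) = nilradical A from Ideal.sInf_minimalPrimes] at h1
    exact (ha.mul hb.one_sub).eq_zero_of_isNilpotent h1
  refine Subtype.ext ?_
  have h1 := key he hf hiff
  have h2 := key hf he fun p hp => (hiff p hp).symm
  show e = f
  linear_combination h1 - h2

instance finiteIndex_G0 : Finite (WithConv (A →ₐ[k] k) ⧸ G0 k A) := by
  haveI := finite_idem k A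
  classical
  let val : WithConv (A →ₐ[k] k) → ({t : A // IsIdempotentElem t} → Bool) := fun g t => decide (g.ofConv t.1 = 0)
  have hval : ∀ g h, val g = val h → g⁻¹ * h ∈ G0 k A := by
    intro g h e
    refine mem_G0.2 fun t ht ht0 => ?_
    let t' := LunaNhd.lT (g⁻¹ : WithConv (A →ₐ[k] k)).ofConv t
    have h1 : ∀ z : WithConv (A →ₐ[k] k), z.ofConv t' = (g⁻¹ * z).ofConv t := fun z => by
      show z.ofConv (LunaNhd.lT _ t) = _
      rw [LunaNhd.apply_lT, toConv_ofConv, toConv_ofConv]
    have h2 : g.ofConv t' = 0 := by rw [h1, inv_mul_cancel, one_apply_eq, ht0]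
    have h3 := congrFun e ⟨t', ht.map _⟩
    simp only [val, h2, decide_true] at h3
    rw [← h1]
    exact of_decide_eq_true h3.symm
  refine Finite.of_injective (β := {t : A // IsIdempotentElem t} → Bool) (fun c => val c.out) fun c d e => ?_
  rw [← QuotientGroup.out_eq' c, ← QuotientGroup.out_eq' d, QuotientGroup.eq]
  exact hval _ _ e

variable (k A) in
/-- The projection to the identity component. -/
abbrev q0 : A →ₐc[k] (A ⧸ cIdeal k A) := Bialgebra.Quotient.mkBialgHom (cIdeal k A)

variable (V) in
/-- Restriction to the identity component. -/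
abbrev res0 : HopfRep.Comod k (A ⧸ cIdeal k A) V := pushComod V ((q0 k A : A →ₐc[k] (A ⧸ cIdeal k A)) : A →ₗc[k] _)

theorem act_res0 (n : (A ⧸ cIdeal k A) →ₐ[k] k) (v : V) :
    letI := res0 (k := k) (A := A) V
    actHom k (A ⧸ cIdeal k A) V (toConv n) v =
      actHom k A V (toConv (n.comp (Ideal.Quotient.mkₐ k (cIdeal k A)))) v := by
  letI := res0 (k := k) (A := A) V
  show rcon n.toLinearMap (((q0 k A : A →ₐc[k] _) : A →ₗc[k] _).toLinearMap.lTensor V
      (HopfRep.Comod.coact (k := k) (A := A) v)) = _
  rw [rcon_lTensor]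
  rfl

theorem comp_mk_mem (n : (A ⧸ cIdeal k A) →ₐ[k] k) :
    toConv (n.comp (Ideal.Quotient.mkₐ k (cIdeal k A))) ∈ G0 k A := fun a ha => by
  show n (Ideal.Quotient.mk _ a) = 0
  rw [Ideal.Quotient.eq_zero_iff_mem.2 ha, map_zero]

theorem exists_comp_mk {x : WithConv (A →ₐ[k] k)} (hx : x ∈ G0 k A) :
    ∃ n : (A ⧸ cIdeal k A) →ₐ[k] k, toConv (n.comp (Ideal.Quotient.mkₐ k (cIdeal k A))) = x :=
  ⟨Ideal.Quotient.liftₐ _ x.ofConv fun a ha => hx a ha, rfl⟩

/-- The points of the identity component killing its common kernel fix every simple representation of the group. -/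
theorem fixed_of_covIdeal_component {n : (A ⧸ cIdeal k A) →ₐ[k] k}
    (hn : ∀ a ∈ covIdeal k (A ⧸ cIdeal k A), n a = Coalgebra.counit (R := k) a)
    {V : Type u} [AddCommGroup V] [Module k V] [HopfRep.Comod k A V] (hV : HopfRep.IsSimpleComod k A V) (v : V) :
    actHom k A V (toConv (n.comp (Ideal.Quotient.mkₐ k (cIdeal k A)))) v = v := by
  haveI : Module.Finite k V := by haveI := isSimpleComod_iff.mp hV; exact finite_of_isSimple (C := A)
  haveI : Algebra.FiniteType k (A ⧸ cIdeal k A) :=
    Algebra.FiniteType.of_surjective (Ideal.Quotient.mkₐ k _) (Ideal.Quotient.mkₐ_surjective _ _)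
  let St : Submodule k V → Prop := fun P => ∀ x ∈ G0 k A, ∀ w ∈ P, actHom k A V x w ∈ P
  let Mn : Submodule k V → Prop := fun P => P ≠ ⊥ ∧ St P ∧ ∀ Q, Q ≤ P → St Q → Q = ⊥ ∨ Q = P
  let Soc : Submodule k V := sSup {P | Mn P}
  obtain ⟨P₀, hP₀⟩ : ∃ P, Mn P := by
    haveI := hV.1
    obtain ⟨P, ⟨hP0, hP⟩, hmin⟩ := wellFounded_lt.has_min {P : Submodule k V | P ≠ ⊥ ∧ St P}
      ⟨⊤, top_ne_bot, fun _ _ _ _ => Submodule.mem_top⟩
    refine ⟨P, hP0, hP, fun Q hQ hQs => or_iff_not_imp_left.2 fun hQ0 => ?_⟩
    exact (eq_or_lt_of_le hQ).resolve_right (hmin Q ⟨hQ0, hQs⟩)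
  have hst : HopfRep.IsSubcomod (k := k) (A := A) Soc := by
    refine isSubcomod_of_points Soc fun g w hw => ?_
    let T := actHom k A V (toConv g)
    let T' := actHom k A V (toConv g)⁻¹
    have hTT' : ∀ z, T (T' z) = z := fun z => by
      simp only [T, T', ← Module.End.mul_apply, ← map_mul, mul_inv_cancel, map_one, Module.End.one_apply]
    have hT'T : ∀ z, T' (T z) = z := fun z => by
      simp only [T, T', ← Module.End.mul_apply, ← map_mul, inv_mul_cancel, map_one, Module.End.one_apply]
    suffices h : Soc ≤ Soc.comap T from h hw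
    refine sSup_le fun P hP => ?_
    rw [← Submodule.map_le_iff_le_comap]
    refine le_sSup ⟨?_, ?_, ?_⟩
    · intro h0
      refine hP.1 ((Submodule.eq_bot_iff P).2 fun z hz => ?_)
      have : T z ∈ P.map T := ⟨z, hz, rfl⟩
      rw [h0, Submodule.mem_bot] at this
      rw [← hT'T z, this, map_zero]
    · rintro x hx _ ⟨z, hz, rfl⟩
      refine ⟨actHom k A V ((toConv g)⁻¹ * x * toConv g) z, hP.2.1 _ ?_ z hz, ?_⟩
      · have := (normal_G0 (k := k) (A := A)).conj_mem x hx (toConv g)⁻¹
        rwa [inv_inv] at this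
      · simp only [T, ← Module.End.mul_apply, ← map_mul, ← mul_assoc, mul_inv_cancel, one_mul]
    · intro Q hQ hQs
      have h1 : Q.map T' ≤ P := by
        rintro _ ⟨z, hz, rfl⟩
        obtain ⟨p, hp, rfl⟩ := hQ hz
        rw [hT'T]; exact hp
      have h2 : St (Q.map T') := by
        rintro x hx _ ⟨z, hz, rfl⟩
        refine ⟨actHom k A V (toConv g * x * (toConv g)⁻¹) z,
          hQs _ ((normal_G0 (k := k) (A := A)).conj_mem x hx _) z hz, ?_⟩
        simp only [T', ← Module.End.mul_apply, ← map_mul, ← mul_assoc, inv_mul_cancel, one_mul]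
      rcases hP.2.2 _ h1 h2 with h | h
      · refine Or.inl ((Submodule.eq_bot_iff Q).2 fun z hz => ?_)
        have : T' z ∈ Q.map T' := ⟨z, hz, rfl⟩
        rw [h, Submodule.mem_bot] at this
        rw [← hTT' z, this, map_zero]
      · refine Or.inr (le_antisymm hQ ?_)
        rintro _ ⟨p, hp, rfl⟩
        rw [← h] at hp
        obtain ⟨z, hz, rfl⟩ := hp
        rw [hTT']; exact hz
  have htop : Soc = ⊤ := (hV.2 Soc hst).resolve_left fun h => hP₀.1 (le_bot_iff.1 (h ▸ le_sSup (show P₀ ∈ {P | Mn P} from hP₀)))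
  have hle : Soc ≤ LinearMap.ker (actHom k A V (toConv (n.comp (Ideal.Quotient.mkₐ k (cIdeal k A)))) - 1) := by
    refine sSup_le fun P hP w hw => ?_
    rw [LinearMap.mem_ker, LinearMap.sub_apply, Module.End.one_apply, sub_eq_zero]
    letI c0 : HopfRep.Comod k (A ⧸ cIdeal k A) V := res0 V
    have hPsub : HopfRep.IsSubcomod (k := k) (A := A ⧸ cIdeal k A) P :=
      isSubcomod_of_points (A := A ⧸ cIdeal k A) P fun m z hz => by
        rw [act_res0]; exact hP.2.1 _ (comp_mk_mem m) z hz
    letI cP := subComod (C := A ⧸ cIdeal k A) P hPsub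
    have hval : ∀ (m : (A ⧸ cIdeal k A) →ₐ[k] k) (z : P), ((actHom k (A ⧸ cIdeal k A) P (toConv m) z : P) : V) =
        actHom k A V (toConv (m.comp (Ideal.Quotient.mkₐ k (cIdeal k A)))) (z : V) := fun m z => by
      rw [← act_res0, actHom_eq_smul, actHom_eq_smul]
      exact isComodHom_iff.mp (isComodHom_subtype P hPsub) _ z
    have hPs : HopfRep.IsSimpleComod k (A ⧸ cIdeal k A) P := by
      refine ⟨Submodule.nontrivial_iff_ne_bot.2 hP.1, fun Q hQ => ?_⟩
      have hQs : St (Q.map P.subtype) := by
        rintro x hx _ ⟨z, hz, rfl⟩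
        obtain ⟨m, rfl⟩ := exists_comp_mk hx
        exact ⟨_, actHom_mem hQ _ hz, hval m z⟩
      rcases hP.2.2 _ (Submodule.map_subtype_le _ _) hQs with h | h
      · exact Or.inl (Submodule.map_injective_of_injective P.injective_subtype (h.trans (Submodule.map_bot _).symm))
      · exact Or.inr (Submodule.map_injective_of_injective P.injective_subtype (h.trans P.map_subtype_top.symm))
    have := simple_fixed hPs hn ⟨w, hw⟩
    have h2 := hval n ⟨w, hw⟩
    rw [this] at h2
    exact h2.symm
  have := hle (htop ▸ Submodule.mem_top : v ∈ Soc)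
  simpa [sub_eq_zero] using this

/-- A group whose irreducible representations are jointly faithful on points is linearly reductive. -/
theorem isLinearlyReductive_of_faithful
    (hf : ∀ x : A →ₐ[k] k, (∀ a ∈ covIdeal k A, x a = Coalgebra.counit (R := k) a) → x = Bialgebra.counitAlgHom k A) :
    HopfRep.IsLinearlyReductive k A := by
  haveI : Algebra.FiniteType k (A ⧸ cIdeal k A) :=
    Algebra.FiniteType.of_surjective (Ideal.Quotient.mkₐ k _) (Ideal.Quotient.mkₐ_surjective _ _)
  -- the identity component
  have haug : ∀ a : A ⧸ cIdeal k A, Coalgebra.counit (R := k) a = 0 → a ∈ covIdeal k (A ⧸ cIdeal k A) := by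
    intro a ha
    let I := covIdeal k (A ⧸ cIdeal k A)
    haveI : Algebra.FiniteType k ((A ⧸ cIdeal k A) ⧸ I) :=
      Algebra.FiniteType.of_surjective (Ideal.Quotient.mkₐ k _) (Ideal.Quotient.mkₐ_surjective _ _)
    haveI : _root_.IsReduced ((A ⧸ cIdeal k A) ⧸ I) := HopfGr.isReduced_charZero (k := k)
    refine Ideal.Quotient.eq_zero_iff_mem.1 (eq_zero_of_forall_point (k := k) fun φ => ?_)
    let n := φ.comp (Ideal.Quotient.mkₐ k I)
    have hn : ∀ b ∈ I, n b = Coalgebra.counit (R := k) b := fun b hb => by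
      show φ (Ideal.Quotient.mk I b) = _
      rw [Ideal.Quotient.eq_zero_iff_mem.2 hb, map_zero]
      exact (kills_counit b hb).symm
    have hx : n.comp (Ideal.Quotient.mkₐ k (cIdeal k A)) = Bialgebra.counitAlgHom k A := by
      refine hf _ fun b hb => ?_
      induction hb using Submodule.span_induction with
      | mem b hb =>
        obtain ⟨M, W, hc, φ', w, hw, hφ', rfl⟩ := hb
        rw [map_sub, map_sub, AlgHom.commutes, Bialgebra.counit_algebraMap, Algebra.algebraMap_self, RingHom.id_apply,
          counit_coefMap, apply_coefMap', sub_self, sub_eq_zero]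
        -- the simple subcomodule cut out by the functional
        let F : A →ₗ[WithConv (A →ₗ[k] k)] A := coefMap (C := A) φ'
        let S : Submodule (WithConv (A →ₗ[k] k)) A := (toDual W hc.subW).map F
        by_cases hS : S = ⊥
        · have h0 : F w = 0 := (Submodule.eq_bot_iff S).1 hS _ ⟨w, hw, rfl⟩
          rw [← apply_coefMap', ← counit_coefMap (C := A) φ' w]
          show _ = Coalgebra.counit (R := k) (F w)
          rw [show coefMap (C := A) φ' w = F w from rfl, h0, map_zero, map_zero]
        have hat : IsAtom S := by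
          refine ⟨hS, fun Q hQ => ?_⟩
          let Q' := toDual W hc.subW ⊓ Q.comap F
          rcases hc.adj (Q'.restrictScalars k) (isSubcomod_restrictScalars _) (fun m hm => ⟨hc.lt.le hm, by
              show F m ∈ Q
              rw [show F m = 0 from coefMap_eq_zero_of_subcomod hc.subM hφ' hm]
              exact Q.zero_mem⟩) (fun z hz => hz.1) with h | h
          · refine (Submodule.eq_bot_iff Q).2 fun q hq => ?_
            obtain ⟨z, hz, rfl⟩ := hQ.le hq
            have : z ∈ Q'.restrictScalars k := ⟨hz, hq⟩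
            rw [h] at this
            exact coefMap_eq_zero_of_subcomod hc.subM hφ' this
          · refine absurd (le_antisymm hQ.le ?_) hQ.ne
            rintro _ ⟨z, hz, rfl⟩
            have : z ∈ Q'.restrictScalars k := by rw [h]; exact hz
            exact this.2
        have hSs : HopfRep.IsSubcomod (k := k) (A := A) (S.restrictScalars k) := isSubcomod_restrictScalars _
        letI := subComod (S.restrictScalars k) hSs
        have hsim : HopfRep.IsSimpleComod k A (S.restrictScalars k) := by
          refine ⟨Submodule.nontrivial_iff_ne_bot.2 fun e => hS ((Submodule.restrictScalars_eq_bot_iff k _ _).1 e),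
            fun Q hQ => ?_⟩
          have hQs : HopfRep.IsSubcomod (k := k) (A := A) (Q.map (S.restrictScalars k).subtype) := by
            refine isSubcomod_iff.mpr ?_
            rintro f _ ⟨z, hz, rfl⟩
            exact ⟨f • z, isSubcomod_iff.mp hQ f z hz, isComodHom_iff.mp (isComodHom_subtype _ hSs) f z⟩
          have hle : toDual (Q.map (S.restrictScalars k).subtype) hQs ≤ S := fun z hz =>
            Submodule.map_subtype_le _ Q hz
          rcases hat.le_iff.1 hle with h | h
          · refine Or.inl ((Submodule.eq_bot_iff Q).2 fun z hz => Subtype.ext ?_)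
            exact (Submodule.eq_bot_iff _).1 h (z : A) ⟨z, hz, rfl⟩
          · refine Or.inr (eq_top_iff.2 fun z _ => ?_)
            have h1 : (z : A) ∈ toDual (Q.map (S.restrictScalars k).subtype) hQs := h.symm ▸ z.2
            obtain ⟨y, hy, e⟩ := h1
            rwa [← Subtype.ext e]
        have hfix := fixed_of_covIdeal_component hn hsim ⟨F w, w, hw, rfl⟩
        rw [actHom_eq_smul] at hfix
        let f : WithConv (A →ₗ[k] k) := toConv (n.comp (Ideal.Quotient.mkₐ k (cIdeal k A))).toLinearMap
        have h2 : f • F w = F w := ((isComodHom_iff.mp (isComodHom_subtype _ hSs) f ⟨F w, w, hw, rfl⟩).symm.trans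
          (congrArg Subtype.val hfix))
        rw [← map_smul] at h2
        have h3 := congrArg (Coalgebra.counit (R := k)) h2
        rw [counit_coefMap, counit_coefMap] at h3
        exact h3
      | zero => simp
      | add p q _ _ hp hq => rw [map_add, map_add, hp, hq]
      | smul r p hp' hp => rw [smul_eq_mul, map_mul, Bialgebra.counit_mul, hp, show Coalgebra.counit (R := k) p = 0 from kills_counit p hp', mul_zero, mul_zero]
    obtain ⟨a', rfl⟩ := Ideal.Quotient.mk_surjective a
    exact (DFunLike.congr_fun hx a').trans ha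
  have h0 : HopfRep.IsLinearlyReductive k (A ⧸ cIdeal k A) :=
    isLinearlyReductive_of_covIdeal noIdem_cIdeal haug
  rw [Groth.Agent.S16709.result k A ‹_›]
  intro W _ _ _ hfin π hπ hcomm
  letI c0 : HopfRep.Comod k (A ⧸ cIdeal k A) W := res0 W
  have hinv : ∀ (g : A →ₐ[k] k) (w : W), π (actHom k A W (toConv g) w) = π w := by
    intro g w
    have h := congrArg (TensorProduct.lid k A) (LinearMap.congr_fun hcomm w)
    have h' : coefMap (C := A) π w = algebraMap k A (π w) := by
      rw [coefMap_apply, Algebra.algebraMap_eq_smul_one]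
      simpa [lcon] using h
    rw [← apply_coefMap', h', AlgHom.commutes]; rfl
  obtain ⟨v, hv, hv1⟩ := (Groth.Agent.S16709.result k (A ⧸ cIdeal k A) inferInstance).1 h0 W hfin π hπ (by
    refine LinearMap.ext fun w => ?_
    let i : A →ₗ[k] A ⧸ cIdeal k A := (Ideal.Quotient.mkₐ k (cIdeal k A)).toLinearMap
    have := congrArg (LinearMap.lTensor k i) (LinearMap.congr_fun hcomm w)
    simp only [LinearMap.comp_apply, LinearMap.flip_apply, TensorProduct.mk_apply, LinearMap.lTensor_tmul] at this ⊢
    rw [show HopfRep.Comod.coact (k := k) (A := A ⧸ cIdeal k A) w =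
      i.lTensor W (HopfRep.Comod.coact (k := k) (A := A) w) from rfl,
      ← LinearMap.comp_apply, LinearMap.rTensor_comp_lTensor, ← LinearMap.lTensor_comp_rTensor, LinearMap.comp_apply, this]
    exact congrArg (π w ⊗ₜ[k] ·) (map_one (Ideal.Quotient.mkₐ k (cIdeal k A))))
  have hvfix : ∀ x ∈ G0 k A, actHom k A W x v = v := by
    intro x hx
    obtain ⟨m, rfl⟩ := exists_comp_mk hx
    rw [← act_res0]
    show rcon m.toLinearMap (HopfRep.Comod.coact (k := k) (A := A ⧸ cIdeal k A) v) = v
    rw [show HopfRep.Comod.coact (k := k) (A := A ⧸ cIdeal k A) v = v ⊗ₜ[k] (1 : A ⧸ cIdeal k A) from hv,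
      rcon_tmul, AlgHom.toLinearMap_apply, map_one, one_smul]
  haveI : Fintype (WithConv (A →ₐ[k] k) ⧸ G0 k A) := Fintype.ofFinite _
  let f : WithConv (A →ₐ[k] k) ⧸ G0 k A → W := Quotient.lift (fun g => actHom k A W g v) fun a b hab => by
    have h1 : a⁻¹ * b ∈ G0 k A := QuotientGroup.leftRel_apply.1 hab
    show actHom k A W a v = actHom k A W b v
    conv_lhs => rw [← hvfix _ h1, ← Module.End.mul_apply, ← map_mul, mul_inv_cancel_left]
  refine ⟨∑ c, f c, mem_fixedPts_of_points fun g => ?_, ?_⟩
  · rw [map_sum]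
    refine Fintype.sum_equiv (MulAction.toPerm (toConv g)) _ _ fun c => ?_
    induction c using QuotientGroup.induction_on with
    | H a =>
      show actHom k A W (toConv g) (actHom k A W a v) = actHom k A W (toConv g * a) v
      rw [← Module.End.mul_apply, ← map_mul]
  · rw [map_sum]
    have : ∀ c, π (f c) = π v := fun c => by
      induction c using QuotientGroup.induction_on with
      | H a => exact hinv a.ofConv v
    rw [Finset.sum_congr rfl fun c _ => this c, Finset.sum_const, Finset.card_univ, nsmul_eq_mul]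
    exact mul_ne_zero (Nat.cast_ne_zero.2 Fintype.card_ne_zero) hv1

end Groth.Agent.ConjSs
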