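import Groth.Agent.ConjSsLib.Sep
import Groth.Agent.ConjSsLib.LinRed
import Mathlib

/-!
# Semisimple points congruent modulo a unipotent normal subgroup are conjugate
-/

set_option autoImplicit false
set_option maxHeartbeats 1000000
set_option backward.isDefEq.respectTransparency false
set_option backward.isDefEq.respectTransparency.types false

universe u

open TensorProduct WithConv

noncomputable section

namespace Groth.Agent.ConjSs

open Groth.Agent.Comodule Groth.Agent.LieKolchin Groth.Agent.LieRed

variable {k : Type u} [Field k] {A : Type u} [CommRing A] [HopfAlgebra k A]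
variable {H : Type u} [CommRing H] [HopfAlgebra k H] (ι : H →ₐc[k] A)

/-- Restriction of points. -/
def res : WithConv (A →ₐ[k] k) →* WithConv (H →ₐ[k] k) where
  toFun x := toConv (x.ofConv.comp (ι : H →ₐ[k] A))
  map_one' := by
    refine WithConv.ofConv_injective (AlgHom.ext fun a => ?_)
    simp [AlgHom.convOne_def, CoalgHomClass.counit_comp_apply]
  map_mul' x y := WithConv.ofConv_injective (AlgHom.convMul_comp_bialgHom_distrib x y ι)

variable {ι}

theorem res_eq_one_iff {n : WithConv (A →ₐ[k] k)} :
    res ι n = 1 ↔ ∀ a : H, n.ofConv (ι a) = Coalgebra.counit (R := k) a := by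
  constructor
  · intro h a
    have := congrArg (fun z : WithConv (H →ₐ[k] k) => z.ofConv a) h
    simpa [res, AlgHom.convOne_def] using this
  · intro h
    refine WithConv.ofConv_injective (AlgHom.ext fun a => ?_)
    simp [res, AlgHom.convOne_def, h a]

variable {d : ℕ} {M : Matrix (Fin d) (Fin d) A}

theorem alg_add (X Y : Matrix (Fin d) (Fin d) k) :
    (X + Y).map (algebraMap k A) = X.map (algebraMap k A) + Y.map (algebraMap k A) := Matrix.ext fun a b => by simp

theorem alg_sub (X Y : Matrix (Fin d) (Fin d) k) :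
    (X - Y).map (algebraMap k A) = X.map (algebraMap k A) - Y.map (algebraMap k A) := Matrix.ext fun a b => by simp

theorem alg_smul (c : k) (X : Matrix (Fin d) (Fin d) k) :
    (c • X).map (algebraMap k A) = algebraMap k A c • X.map (algebraMap k A) := Matrix.ext fun a b => by simp

/-- The matrix of a point. -/
abbrev rho (M : Matrix (Fin d) (Fin d) A) (x : WithConv (A →ₐ[k] k)) : Matrix (Fin d) (Fin d) k := M.map x.ofConv

variable (k) in
/-- The algebra generated by the matrices of the points. -/
def EA (M : Matrix (Fin d) (Fin d) A) : Subalgebra k (Matrix (Fin d) (Fin d) k) :=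
  Algebra.adjoin k (Set.range (rho (k := k) M))

theorem rho_mem (x : WithConv (A →ₐ[k] k)) : rho M x ∈ EA k M := Algebra.subset_adjoin ⟨x, rfl⟩

theorem rho_eq_iff (hgen : Algebra.adjoin k (Set.range fun p : Fin d × Fin d => M p.1 p.2) = ⊤)
    {x y : WithConv (A →ₐ[k] k)} (h : rho M x = rho M y) : x = y :=
  WithConv.ofConv_injective (AlgHom.ext_of_adjoin_eq_top hgen (by
    rintro _ ⟨⟨i, j⟩, rfl⟩
    exact congrFun (congrFun h i) j))

variable (ι) in
/-- The ideal of the unipotent subgroup. -/
def IU (M : Matrix (Fin d) (Fin d) A) : Submodule k (Matrix (Fin d) (Fin d) k) :=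
  Submodule.span k {z | ∃ a ∈ EA k M, ∃ b ∈ EA k M, ∃ n, res ι n = 1 ∧ z = a * (rho M n - 1) * b}

theorem IU_mem {n : WithConv (A →ₐ[k] k)} (hn : res ι n = 1) : rho M n - 1 ∈ IU ι M :=
  Submodule.subset_span ⟨1, one_mem _, 1, one_mem _, n, hn, by rw [one_mul, mul_one]⟩

theorem IU_le : IU ι M ≤ Subalgebra.toSubmodule (EA k M) := Submodule.span_le.2 <| by
  rintro _ ⟨a, ha, b, hb, n, -, rfl⟩
  show a * (rho M n - 1) * b ∈ EA k M
  exact mul_mem (mul_mem ha (sub_mem (rho_mem n) (one_mem _))) hb

theorem IU_stable {e : Matrix (Fin d) (Fin d) k} (he : e ∈ EA k M) {z : Matrix (Fin d) (Fin d) k}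
    (hz : z ∈ IU ι M) : e * z ∈ IU ι M ∧ z * e ∈ IU ι M := by
  induction hz using Submodule.span_induction with
  | mem z hz =>
    obtain ⟨a, ha, b, hb, n, hn, rfl⟩ := hz
    exact ⟨Submodule.subset_span ⟨e * a, mul_mem he ha, b, hb, n, hn, by simp only [mul_assoc]⟩,
      Submodule.subset_span ⟨a, ha, b * e, mul_mem hb he, n, hn, by simp only [mul_assoc]⟩⟩
  | zero => simp
  | add p q _ _ hp hq => rw [mul_add, add_mul]; exact ⟨add_mem hp.1 hq.1, add_mem hp.2 hq.2⟩
  | smul c p _ hp => rw [mul_smul_comm, smul_mul_assoc]; exact ⟨Submodule.smul_mem _ c hp.1, Submodule.smul_mem _ c hp.2⟩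

theorem pow_stable {r : ℕ} (hr : 1 ≤ r) {e : Matrix (Fin d) (Fin d) k} (he : e ∈ EA k M)
    {z : Matrix (Fin d) (Fin d) k} (hz : z ∈ IU ι M ^ r) : e * z ∈ IU ι M ^ r ∧ z * e ∈ IU ι M ^ r := by
  obtain ⟨r, rfl⟩ := Nat.exists_eq_add_of_le' hr
  constructor
  · rw [pow_succ'] at hz ⊢
    refine Submodule.mul_induction_on hz (fun a ha b hb => ?_) fun p q hp hq => by rw [mul_add]; exact add_mem hp hq
    rw [← mul_assoc]
    exact Submodule.mul_mem_mul (IU_stable he ha).1 hb
  · rw [pow_succ] at hz ⊢
    refine Submodule.mul_induction_on hz (fun a ha b hb => ?_) fun p q hp hq => by rw [add_mul]; exact add_mem hp hq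
    rw [mul_assoc]
    exact Submodule.mul_mem_mul ha (IU_stable he hb).2

theorem pow_antitone {r s : ℕ} (hr : 1 ≤ r) (hrs : r ≤ s) : IU ι M ^ s ≤ IU ι M ^ r := by
  obtain ⟨t, rfl⟩ := Nat.exists_eq_add_of_le hrs
  induction t with
  | zero => exact le_rfl
  | succ t ih =>
    refine le_trans ?_ (ih (Nat.le_add_right r t))
    rw [← add_assoc, pow_succ]
    exact Submodule.mul_le.2 fun a ha b hb => (pow_stable (by omega) (IU_le hb) ha).2

theorem pow_two_le {r : ℕ} (hr : 1 ≤ r) {a b : Matrix (Fin d) (Fin d) k} (ha : a ∈ IU ι M ^ r) (hb : b ∈ IU ι M ^ r) :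
    a * b ∈ IU ι M ^ (r + 1) := by
  refine pow_antitone (by omega) (show r + 1 ≤ r + r by omega) ?_
  rw [pow_add]; exact Submodule.mul_mem_mul ha hb

theorem map_rho (hM : IsMult k M) (x : WithConv (A →ₐ[k] k)) (X : Matrix (Fin d) (Fin d) k) (i j : Fin d) :
    (M * (rho M x * X).map (algebraMap k A)) i j =
      actHom k A A x ((M * X.map (algebraMap k A)) i j) := by
  have he : ∀ i l, actHom k A A x (M i l) = ∑ m, x.ofConv (M m l) • M i m := fun i l => by
    rw [actHom_eq_act]; exact act_entry hM x.ofConv i l
  simp only [Matrix.mul_apply, Matrix.map_apply, map_sum, Finset.mul_sum, _root_.map_mul]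
  rw [Finset.sum_comm]
  refine Finset.sum_congr rfl fun l _ => ?_
  rw [show M i l * algebraMap k A (X l j) = X l j • M i l from by rw [Algebra.smul_def, mul_comm], map_smul, he,
    Finset.smul_sum]
  refine Finset.sum_congr rfl fun m _ => ?_
  rw [Algebra.smul_def, Algebra.smul_def]
  rw [show x.ofConv (M m l) = rho M x m l from rfl]
  ring

theorem map_EA (hM : IsMult k M) {P : Submodule k A} (hP : HopfRep.IsSubcomod (k := k) (A := A) P)
    {e : Matrix (Fin d) (Fin d) k} (he : e ∈ EA k M) :
    ∀ X : Matrix (Fin d) (Fin d) k, (∀ i j, (M * X.map (algebraMap k A)) i j ∈ P) →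
      ∀ i j, (M * (e * X).map (algebraMap k A)) i j ∈ P := by
  induction he using Algebra.adjoin_induction with
  | mem x hx =>
    obtain ⟨x, rfl⟩ := hx
    intro X hX i j
    rw [map_rho hM]
    exact actHom_mem hP x (hX i j)
  | algebraMap c =>
    intro X hX i j
    rw [← Algebra.smul_def, alg_smul, Matrix.mul_smul, Matrix.smul_apply, smul_eq_mul, ← Algebra.smul_def]
    exact P.smul_mem c (hX i j)
  | add p q _ _ hp hq =>
    intro X hX i j
    rw [add_mul, alg_add, mul_add, Matrix.add_apply]
    exact P.add_mem (hp X hX i j) (hq X hX i j)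
  | mul p q _ _ hp hq =>
    intro X hX i j
    rw [mul_assoc]
    exact hp _ (hq X hX) i j

variable (ι) in
/-- The unipotence hypothesis: the subgroup acts trivially on the simple quotients of the regular representation. -/
def Unip : Prop := ∀ n : WithConv (A →ₐ[k] k), res ι n = 1 → ∀ (P W : Submodule k A), IsCover k A P W →
  ∀ w ∈ W, actHom k A A n w - w ∈ P

theorem exists_pow_eq_bot (hM : IsMult k M) (hU : Unip ι) : ∃ m, 1 ≤ m ∧ IU ι M ^ m = ⊥ := by
  classical
  let W : Submodule k A := Submodule.span k (Set.range fun p : Fin d × Fin d => M p.1 p.2)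
  haveI : Module.Finite k W := Module.Finite.span_of_finite k (Set.finite_range _)
  have hW : HopfRep.IsSubcomod (k := k) (A := A) W := by
    refine isSubcomod_iff.mpr fun f w hw => ?_
    induction hw using Submodule.span_induction with
    | mem w hw =>
      obtain ⟨⟨i, j⟩, rfl⟩ := hw
      rw [smul_def, dact, LinearMap.comp_apply, coact_regular, hM.comul, map_sum]
      exact Submodule.sum_mem _ fun l _ => by rw [rcon_tmul]; exact W.smul_mem _ (Submodule.subset_span ⟨(i, l), rfl⟩)
    | zero => rw [smul_zero]; exact W.zero_mem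
    | add p q _ _ hp hq => rw [smul_add]; exact W.add_mem hp hq
    | smul c p _ hp => rw [smul_comm]; exact W.smul_mem c hp
  have hzero : ∀ X : Matrix (Fin d) (Fin d) k, (∀ i j, (M * X.map (algebraMap k A)) i j = 0) → X = 0 := by
    intro X hX
    ext i j
    have h := congrArg (Coalgebra.counit (R := k)) (hX i j)
    rw [_root_.map_zero, Matrix.mul_apply, map_sum] at h
    simpa [hM.counit, Bialgebra.counit_algebraMap] using h
  have key : ∀ (n : ℕ) (P : Submodule k A), HopfRep.IsSubcomod (k := k) (A := A) P → Module.Finite k P →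
      Module.finrank k P ≤ n → ∀ X : Matrix (Fin d) (Fin d) k, (∀ i j, (M * X.map (algebraMap k A)) i j ∈ P) →
      ∀ Z ∈ IU ι M ^ n, Z * X = 0 := by
    intro n
    induction n with
    | zero =>
      intro P _ hfin hn X hX Z _
      have hP : P = ⊥ := Submodule.finrank_eq_zero.mp (Nat.le_zero.mp hn)
      rw [hzero X fun i j => by have := hX i j; rwa [hP, Submodule.mem_bot] at this, mul_zero]
    | succ n ih =>
      intro P hP hfin hn X hX Z hZ
      rcases eq_or_ne P ⊥ with hb | hb
      · rw [hzero X fun i j => by have := hX i j; rwa [hb, Submodule.mem_bot] at this, mul_zero]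
      obtain ⟨P', hc⟩ := exists_maximal_sub hP hb
      haveI : Module.Finite k P' := Submodule.finiteDimensional_of_le hc.lt.le
      rw [pow_succ] at hZ
      refine Submodule.mul_induction_on hZ (fun a ha u hu => ?_) fun p q hp hq => by rw [add_mul, hp, hq, add_zero]
      rw [mul_assoc]
      refine ih P' hc.subM inferInstance (Nat.le_of_lt_succ ((Submodule.finrank_lt_finrank_of_lt hc.lt).trans_le hn))
        (u * X) ?_ a ha
      induction hu using Submodule.span_induction with
      | mem u hu =>
        obtain ⟨p, hp, q, hq, m, hm, rfl⟩ := hu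
        rw [mul_assoc, mul_assoc]
        refine map_EA hM hc.subM hp _ fun i j => ?_
        have h2 := map_EA hM hP hq X hX i j
        have e : (M * ((rho M m - 1) * (q * X)).map (algebraMap k A)) i j =
            actHom k A A m ((M * (q * X).map (algebraMap k A)) i j) - (M * (q * X).map (algebraMap k A)) i j := by
          rw [← map_rho hM, sub_mul, one_mul, alg_sub, mul_sub, Matrix.sub_apply]
        rw [e]
        exact hU m hm P' P hc _ h2
      | zero => intro i j; simp
      | add p q _ _ hp hq =>
        intro i j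
        rw [add_mul, alg_add, mul_add, Matrix.add_apply]
        exact P'.add_mem (hp i j) (hq i j)
      | smul c p _ hp =>
        intro i j
        rw [smul_mul_assoc, alg_smul, Matrix.mul_smul, Matrix.smul_apply, smul_eq_mul, ← Algebra.smul_def]
        exact P'.smul_mem c (hp i j)
  refine ⟨Module.finrank k W + 1, Nat.le_add_left 1 _, (Submodule.eq_bot_iff _).2 fun Z hZ => ?_⟩
  have h := key _ W hW inferInstance (Nat.le_succ _) 1 (fun i j => by
    rw [Matrix.map_one _ (_root_.map_zero _) (_root_.map_one _), mul_one]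
    exact Submodule.subset_span ⟨(i, j), rfl⟩) Z hZ
  rwa [mul_one] at h

section Char

variable [CharZero k]

/-- Binomial powers of a point of the subgroup. -/
theorem exists_pt_pow (hM : IsMult k M) (hgen : Algebra.adjoin k (Set.range fun p : Fin d × Fin d => M p.1 p.2) = ⊤)
    {n : WithConv (A →ₐ[k] k)} (hn : res ι n = 1) {N : ℕ} (hN : (rho M n - 1) ^ N = 0) (t : k) :
    ∃ n' : WithConv (A →ₐ[k] k), res ι n' = 1 ∧
      rho M n' = ∑ i ∈ Finset.range N, ((i.factorial : k)⁻¹ * (descPochhammer k i).eval t) • (rho M n - 1) ^ i := by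
  classical
  let U := rho M n - 1
  let P : Matrix (Fin d) (Fin d) (Polynomial k) := Matrix.of fun a b =>
    ∑ i ∈ Finset.range N, Polynomial.C ((i.factorial : k)⁻¹ * (U ^ i) a b) * descPochhammer k i
  let π : MvPolynomial (Fin d × Fin d) k →ₐ[k] A := MvPolynomial.aeval fun p => M p.1 p.2
  have hπ : Function.Surjective π := by
    rw [← AlgHom.range_eq_top, ← Algebra.adjoin_range_eq_range_aeval]; exact hgen
  let θ : MvPolynomial (Fin d × Fin d) k →ₐ[k] Polynomial k := MvPolynomial.aeval fun p => P p.1 p.2
  have hPt : ∀ (s : k) a b, (P a b).eval s =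
      (∑ i ∈ Finset.range N, ((i.factorial : k)⁻¹ * (descPochhammer k i).eval s) • U ^ i) a b := fun s a b => by
    simp only [P, Matrix.of_apply, Polynomial.eval_finset_sum, Polynomial.eval_mul, Polynomial.eval_C, Matrix.sum_apply,
      Matrix.smul_apply, smul_eq_mul]
    exact Finset.sum_congr rfl fun i _ => by ring
  have hnat : ∀ (m : ℕ) (f : MvPolynomial (Fin d × Fin d) k), (θ f).eval (m : k) = (n ^ m).ofConv (π f) := by
    intro m f
    have hρ : rho M (n ^ m) = ∑ i ∈ Finset.range N, ((i.factorial : k)⁻¹ * (descPochhammer k i).eval (m : k)) • U ^ i := by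
      have h1 : rho M (n ^ m) = (1 + U) ^ m := by
        rw [add_sub_cancel]
        induction m with
        | zero => rw [pow_zero, pow_zero]; exact hM.map_one
        | succ m ih => rw [pow_succ, pow_succ, ← ih]; exact hM.map_mul _ _
      have hc : ∀ i, ((i.factorial : k)⁻¹ * (descPochhammer k i).eval (m : k)) = (m.choose i : k) := fun i => by
        rw [descPochhammer_eval_eq_descFactorial, Nat.descFactorial_eq_factorial_mul_choose, Nat.cast_mul,
          inv_mul_cancel_left₀ (Nat.cast_ne_zero.2 i.factorial_ne_zero)]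
      simp only [hc]
      rw [h1, add_comm, (Commute.one_right U).add_pow]
      refine Eq.trans ?_ (Finset.sum_subset (Finset.range_mono (le_max_right (m + 1) N)) fun i _ hi => ?_).symm
      · refine Eq.trans ?_ (Finset.sum_subset (Finset.range_mono (le_max_left (m + 1) N)) fun i _ hi => ?_)
        · refine Finset.sum_congr rfl fun i _ => ?_
          rw [one_pow, mul_one, Nat.cast_smul_eq_nsmul, nsmul_eq_mul, Nat.cast_comm]
        · rw [Nat.choose_eq_zero_of_lt (by simpa using hi), Nat.cast_zero, zero_smul]
      · rw [show U ^ i = 0 from pow_eq_zero_of_le (by simpa using hi) hN, smul_zero]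
    have he : (Polynomial.aeval (m : k)).comp θ = ((n ^ m).ofConv).comp π := by
      refine MvPolynomial.algHom_ext fun p => ?_
      show (Polynomial.aeval (m : k)) (θ (MvPolynomial.X p)) = (n ^ m).ofConv (π (MvPolynomial.X p))
      simp only [θ, π, MvPolynomial.aeval_X, Polynomial.coe_aeval_eq_eval]
      rw [hPt, ← hρ]
      rfl
    have := DFunLike.congr_fun he f
    simpa using this
  have hker : ∀ f ∈ RingHom.ker π, θ f = 0 := fun f hf => by
    refine Polynomial.eq_zero_of_infinite_isRoot _ (Set.Infinite.mono ?_ (Set.infinite_range_of_injective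
      (Nat.cast_injective (R := k))))
    rintro _ ⟨m, rfl⟩
    show (θ f).eval (m : k) = 0
    rw [hnat, show π f = 0 from hf, _root_.map_zero]
  let φ : A →ₐ[k] Polynomial k := (Ideal.Quotient.liftₐ _ θ hker).comp
    (Ideal.quotientKerAlgEquivOfSurjective hπ).symm.toAlgHom
  have hφ : ∀ f, φ (π f) = θ f := fun f => by
    have h1 : (Ideal.quotientKerAlgEquivOfSurjective hπ).symm (π f) = Ideal.Quotient.mk _ f :=
      (Ideal.quotientKerAlgEquivOfSurjective hπ).injective (by rw [AlgEquiv.apply_symm_apply]; rfl)
    show Ideal.Quotient.liftₐ _ θ hker ((Ideal.quotientKerAlgEquivOfSurjective hπ).symm (π f)) = _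
    rw [h1]
    rfl
  refine ⟨toConv ((Polynomial.aeval t).comp φ), res_eq_one_iff.2 fun a => ?_, Matrix.ext fun a b => ?_⟩
  · have h : φ (ι a) = Polynomial.C (Coalgebra.counit (R := k) a) := by
      rw [← sub_eq_zero]
      refine Polynomial.eq_zero_of_infinite_isRoot _ (Set.Infinite.mono ?_ (Set.infinite_range_of_injective
        (Nat.cast_injective (R := k))))
      rintro _ ⟨m, rfl⟩
      obtain ⟨f, hf⟩ := hπ (ι a)
      show (φ (ι a) - _).eval (m : k) = 0
      rw [Polynomial.eval_sub, Polynomial.eval_C, ← hf, hφ, hnat, hf,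
        res_eq_one_iff.1 (show res ι (n ^ m) = 1 by rw [map_pow, hn, one_pow]) a, sub_self]
    show Polynomial.aeval t (φ (ι a)) = _
    rw [h, Polynomial.aeval_C]
    rfl
  · show Polynomial.aeval t (φ (M a b)) = _
    have e1 : π (MvPolynomial.X (a, b)) = M a b := by simp [π]
    have e2 : θ (MvPolynomial.X (a, b)) = P a b := by simp [θ]
    rw [← e1, hφ, e2, Polynomial.coe_aeval_eq_eval, hPt]

variable [IsAlgClosed k] [Algebra.FiniteType k A]

/-- Semisimple points congruent modulo the unipotent subgroup are conjugate. -/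
theorem conj_of_res (hU : Unip ι) {g g' : A →ₐ[k] k} (hg : SS g) (hg' : SS g')
    (h : res ι (toConv g) = res ι (toConv g')) :
    ∃ x : WithConv (A →ₐ[k] k), x * toConv g * x⁻¹ = toConv g' := by
  classical
  obtain ⟨d, M, hM, hgen⟩ := exists_gen_matrix k A
  obtain ⟨N, hN1, hN⟩ := exists_pow_eq_bot hM hU
  have hnilp : ∀ z ∈ IU ι M, z ^ N = 0 := fun z hz => (Submodule.eq_bot_iff _).1 hN _ (Submodule.pow_mem_pow _ hz N)
  have main : ∀ r, 1 ≤ r → ∃ x n : WithConv (A →ₐ[k] k), res ι n = 1 ∧ rho M n - 1 ∈ IU ι M ^ r ∧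
      x * toConv g * x⁻¹ = toConv g' * n := by
    intro r hr
    induction r, hr using Nat.le_induction with
    | base =>
      refine ⟨1, (toConv g')⁻¹ * toConv g, by rw [map_mul, map_inv, h, inv_mul_cancel], ?_, by simp⟩
      rw [pow_one]
      exact IU_mem (by rw [map_mul, map_inv, h, inv_mul_cancel])
    | succ r hr ih =>
      obtain ⟨x, n, hn, hnr, hx⟩ := ih
      let I' := IU ι M ^ (r + 1)
      have hr1 : 1 ≤ r + 1 := by omega
      let a := rho M (toConv g')
      let si := rho M (toConv g')⁻¹
      have hsi : si * a = 1 := hM.map_inv_mul _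
      have his : a * si = 1 := hM.map_mul_inv _
      have ha : a ∈ EA k M := rho_mem _
      obtain ⟨q, hq, hq0⟩ := exists_sqfree hM (ss_conj hg x)
      obtain ⟨q', hq', hq0'⟩ := exists_sqfree hM hg'
      have hqa : Polynomial.aeval a q = 0 := by
        have h1 : Polynomial.aeval a q ∈ IU ι M := by
          have h2 : rho M (x * toConv g * x⁻¹) - a ∈ IU ι M := by
            rw [hx, rho, hM.map_mul, show M.map (toConv g').ofConv * M.map n.ofConv - a = a * (rho M n - 1) from by
              rw [mul_sub, mul_one]]
            exact (IU_stable ha (IU_mem hn)).1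
          have h3 := aeval_sub_mem q (EA k M) (IU ι M) (fun e he z hz => (IU_stable he hz).1)
            (fun e he z hz => (IU_stable he hz).2) (rho_mem _) ha h2
          rw [show Polynomial.aeval (rho M (x * toConv g * x⁻¹)) q = 0 from hq0, zero_sub, Submodule.neg_mem_iff] at h3
          exact h3
        have hL : Module.End.IsSemisimple (LinearMap.mulLeft k a : Module.End k (Matrix (Fin d) (Fin d) k)) := Module.End.isSemisimple_of_squarefree_aeval_eq_zero hq' (by
          rw [aeval_mulLeft, show Polynomial.aeval a q' = 0 from hq0', LinearMap.mulLeft_zero_eq_zero])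
        have h4 : LinearMap.mulLeft k (Polynomial.aeval a q) = 0 := by
          refine Module.End.eq_zero_of_isNilpotent_isSemisimple ⟨N, ?_⟩ ?_
          · rw [LinearMap.pow_mulLeft, hnilp _ h1, LinearMap.mulLeft_zero_eq_zero]
          · rw [← aeval_mulLeft]; exact hL.aeval q
        simpa using LinearMap.congr_fun h4 1
      -- the layer
      let S : Submodule k (Matrix (Fin d) (Fin d) k) :=
        { carrier := {z | ∃ m, res ι m = 1 ∧ rho M m - 1 ∈ IU ι M ^ r ∧ z - (rho M m - 1) ∈ I'}
          zero_mem' := ⟨1, _root_.map_one _, by rw [rho, hM.map_one, sub_self]; exact zero_mem _,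
            by rw [rho, hM.map_one, sub_self, sub_zero]; exact zero_mem _⟩
          add_mem' := by
            rintro y z ⟨m, hm, hmr, hym⟩ ⟨m', hm', hmr', hzm⟩
            have e : rho M (m * m') - 1 = (rho M m - 1) + (rho M m' - 1) + (rho M m - 1) * (rho M m' - 1) := by
              rw [rho, hM.map_mul, sub_mul, mul_sub, mul_sub, one_mul, one_mul, mul_one]; abel
            refine ⟨m * m', by rw [map_mul, hm, hm', one_mul], ?_, ?_⟩
            · rw [e]; exact add_mem (add_mem hmr hmr') (pow_antitone hr (Nat.le_succ r) (pow_two_le hr hmr hmr'))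
            · rw [e, show y + z - ((rho M m - 1) + (rho M m' - 1) + (rho M m - 1) * (rho M m' - 1)) =
                (y - (rho M m - 1)) + (z - (rho M m' - 1)) - (rho M m - 1) * (rho M m' - 1) from by abel]
              exact sub_mem (add_mem hym hzm) (pow_two_le hr hmr hmr')
          smul_mem' := by
            rintro c z ⟨m, hm, hmr, hzm⟩
            let U := rho M m - 1
            have hUI : U ∈ IU ι M := IU_mem hm
            obtain ⟨m', hm', hρ⟩ := exists_pt_pow hM hgen hm (N := N + 2) (pow_eq_zero_of_le (by omega) (hnilp U hUI)) c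
            have hrest : rho M m' - 1 - c • U ∈ I' := by
              rw [hρ, Finset.sum_range_succ', Finset.sum_range_succ']
              simp only [descPochhammer_zero, Polynomial.eval_one, Nat.factorial_zero, Nat.cast_one, inv_one, one_mul,
                pow_zero, one_smul, zero_add, Nat.factorial_one, descPochhammer_one, Polynomial.eval_X, pow_one]
              rw [show ∀ s : Matrix (Fin d) (Fin d) k, s + c • U + 1 - 1 - c • U = s from fun s => by abel]
              refine Submodule.sum_mem _ fun i _ => Submodule.smul_mem _ _ ?_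
              have h2 : ∀ i : ℕ, (rho M m - 1) ^ (i + 1) ∈ IU ι M ^ r := fun i => by
                induction i with
                | zero => simpa using hmr
                | succ i ih => rw [pow_succ]; exact (pow_stable hr (IU_le hUI) ih).2
              rw [pow_succ]
              exact pow_two_le hr (h2 i) hmr
            refine ⟨m', hm', ?_, ?_⟩
            · rw [show rho M m' - 1 = (rho M m' - 1 - c • U) + c • U from by abel]
              exact add_mem (pow_antitone hr (Nat.le_succ r) hrest) (Submodule.smul_mem _ c hmr)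
            · rw [show c • z - (rho M m' - 1) = c • (z - U) - (rho M m' - 1 - c • U) from by rw [smul_sub]; abel]
              exact sub_mem (Submodule.smul_mem _ c hzm) hrest }
      have hst : ∀ z ∈ S, si * z * a ∈ S := by
        rintro z ⟨m, hm, hmr, hzm⟩
        have e : rho M ((toConv g')⁻¹ * m * toConv g') - 1 = si * (rho M m - 1) * a := by
          rw [rho, hM.map_mul, hM.map_mul, mul_sub, sub_mul, mul_one, hsi]
        refine ⟨(toConv g')⁻¹ * m * toConv g', by rw [map_mul, map_mul, hm, mul_one, ← map_mul, inv_mul_cancel, map_one],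
          ?_, ?_⟩
        · rw [e]; exact (pow_stable hr ha (pow_stable hr (rho_mem _) hmr).1).2
        · rw [e, ← sub_mul, ← mul_sub]; exact (pow_stable hr1 ha (pow_stable hr1 (rho_mem _) hzm).1).2
      have hu : rho M n - 1 ∈ S := ⟨n, hn, hnr, by rw [sub_self]; exact zero_mem _⟩
      obtain ⟨x₁, hx₁S, y, hyS, hcx, hdec⟩ := exists_decomp hq' (show Polynomial.aeval a q' = 0 from hq0') hsi S hst hu
      obtain ⟨m, hm, hmr, hmy⟩ := S.neg_mem hyS
      obtain ⟨m₁, hm₁, hm₁r, hm₁x⟩ := hx₁S
      have hx₁r : x₁ ∈ IU ι M ^ r := by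
        rw [show x₁ = (x₁ - (rho M m₁ - 1)) + (rho M m₁ - 1) from by abel]
        exact add_mem (pow_antitone hr (Nat.le_succ r) hm₁x) hm₁r
      let v := rho M m - 1
      let w := rho M m⁻¹ - 1
      have hvw : w + v + v * w = 0 := by
        have := hM.map_mul_inv m
        simp only [v, w, rho] at *
        rw [sub_mul, mul_sub, mul_sub, one_mul, one_mul, mul_one, this]; abel
      have hw : w ∈ IU ι M ^ r := by
        rw [show w = -(v * rho M m⁻¹) from by
          rw [show rho M m⁻¹ = 1 + w from by simp [w], mul_add, mul_one]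
          rw [← sub_eq_zero, ← hvw]; abel]
        exact neg_mem (pow_stable hr (rho_mem _) hmr).2
      let b' := rho M ((m * x) * toConv g * (m * x)⁻¹)
      let v' := si * v * a
      have hv' : v' ∈ IU ι M ^ r := (pow_stable hr ha (pow_stable hr (rho_mem _) hmr).1).2
      have hb' : b' = a * ((1 + v') * (rho M n) * (1 + w)) := by
        show rho M ((m * x) * toConv g * (m * x)⁻¹) = _
        rw [show (m * x) * toConv g * (m * x)⁻¹ = m * (x * toConv g * x⁻¹) * m⁻¹ from by group, hx, rho, hM.map_mul,
          hM.map_mul, hM.map_mul]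
        show rho M m * (a * rho M n) * rho M m⁻¹ = _
        rw [show (1 : Matrix (Fin d) (Fin d) k) + v' = si * rho M m * a from by
          simp only [v', v, mul_sub, sub_mul, mul_one, hsi]; abel, show 1 + w = rho M m⁻¹ from by simp [w]]
        simp only [← mul_assoc]
        rw [his, one_mul]
      have hcong : b' - (a + a * x₁) ∈ I' := by
        rw [hb', show a + a * x₁ = a * (1 + x₁) from by rw [mul_add, mul_one], ← mul_sub]
        refine (pow_stable hr1 ha ?_).1
        let u := rho M n - 1
        have e1 : (1 + v') * rho M n * (1 + w) - (1 + x₁) =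
            (v' * u + v' * w + u * w + v' * u * w) + (w + v) +
              si * (v - (-y)) * a - (v - (-y)) := by
          have hu' : u = x₁ + (si * y * a - y) := hdec
          have hrn : rho M n = 1 + u := by simp [u]
          rw [hrn]
          simp only [v', mul_add, add_mul, mul_one, one_mul, sub_neg_eq_add]
          rw [hu']
          simp only [mul_add, add_mul, mul_sub, sub_mul]
          abel
        have hd : v - -y ∈ I' := by rw [show v - -y = -(-y - v) from by abel]; exact neg_mem hmy
        rw [e1]
        refine sub_mem (add_mem (add_mem ?_ ?_) ?_) hd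
        · refine add_mem (add_mem (add_mem (pow_two_le hr hv' hnr) (pow_two_le hr hv' hw)) (pow_two_le hr hnr hw)) ?_
          exact (pow_stable hr1 (IU_le (pow_one (IU ι M) ▸ pow_antitone le_rfl hr hw)) (pow_two_le hr hv' hnr)).2
        · rw [show w + v = -(v * w) from eq_neg_of_add_eq_zero_left hvw]
          exact neg_mem (pow_two_le hr hmr hw)
        · exact (pow_stable hr1 ha (pow_stable hr1 (rho_mem _) hd).1).2
      have hx₁E : x₁ ∈ EA k M := IU_le (pow_one (IU ι M) ▸ pow_antitone le_rfl hr hx₁r)
      have hae : a + a * x₁ ∈ EA k M := add_mem ha (mul_mem ha hx₁E)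
      have hbE : b' ∈ EA k M := rho_mem _
      have hqb : Polynomial.aeval b' q = 0 := by
        obtain ⟨e, he⟩ : ∃ e : WithConv (A →ₐ[k] k), b' = rho M (e * (x * toConv g * x⁻¹) * e⁻¹) := ⟨m, by
          simp only [b']; congr 1; group⟩
        rw [he, rho, hM.map_mul, hM.map_mul, aeval_conj_eq (hM.map_mul_inv e) (hM.map_inv_mul e),
          show Polynomial.aeval (M.map (x * toConv g * x⁻¹).ofConv) q = 0 from hq0, mul_zero, zero_mul]
      have hcomm : Commute a (a * x₁) := by
        have h3 : x₁ * a = a * x₁ := by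
          conv_rhs => rw [← hcx, ← mul_assoc, ← mul_assoc, his, one_mul]
        show a * (a * x₁) = a * x₁ * a
        rw [mul_assoc a x₁ a, h3]
      have he : a * x₁ ∈ I' := by
        refine mem_of_sq_mem (PerfectField.separable_iff_squarefree.2 hq) I'
          (fun z hz p => (pow_stable hr1 ?_ hz).1) (fun z hz => (pow_stable hr1 hae hz).2) hcomm
          (pow_two_le hr (pow_stable hr ha hx₁r).1 (pow_stable hr ha hx₁r).1) hqa ?_
        · exact (Algebra.adjoin_le (by simpa using ha) : Algebra.adjoin k {a} ≤ EA k M)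
            (Polynomial.aeval_mem_adjoin_singleton k a)
        · have h4 := aeval_sub_mem q (EA k M) I' (fun e he z hz => (pow_stable hr1 he hz).1)
            (fun e he z hz => (pow_stable hr1 he hz).2) hbE hae hcong
          rwa [hqb, zero_sub, Submodule.neg_mem_iff] at h4
      refine ⟨m * x, (toConv g')⁻¹ * ((m * x) * toConv g * (m * x)⁻¹), ?_, ?_, by rw [mul_inv_cancel_left]⟩
      · rw [show (m * x) * toConv g * (m * x)⁻¹ = m * (x * toConv g * x⁻¹) * m⁻¹ from by group, hx]
        simp [hm, hn]
      · have e : rho M ((toConv g')⁻¹ * ((m * x) * toConv g * (m * x)⁻¹)) - 1 = si * (b' - a) := by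
          rw [rho, hM.map_mul, mul_sub, hsi]
        rw [e]
        refine (pow_stable hr1 (rho_mem _) ?_).1
        rw [show b' - a = (b' - (a + a * x₁)) + a * x₁ from by abel]
        exact add_mem hcong he
  obtain ⟨x, n, -, hnN, hx⟩ := main N hN1
  refine ⟨x, ?_⟩
  rw [hN, Submodule.mem_bot, sub_eq_zero] at hnN
  rw [hx, rho_eq_iff (M := M) hgen (hnN.trans hM.map_one.symm), mul_one]

end Char

end Groth.Agent.ConjSs
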