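import Groth.Agent.ConjSsLib.Main
import Groth.Prelude.Def_CoactBr
import Mathlib

/-!
# Points of the group as scheme morphisms
-/

set_option autoImplicit false
set_option backward.isDefEq.respectTransparency false
set_option backward.isDefEq.respectTransparency.types false

universe u

open WithConv CategoryTheory MonoidalCategory CartesianMonoidalCategory MonObj AlgebraicGeometry
open scoped TensorProduct MonObj

noncomputable section

namespace Groth.Agent.ConjSs

variable {k : Type u} [Field k] {A : Type u} [CommRing A] [HopfAlgebra k A]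

theorem pt_mul (a b : WithConv (A →ₐ[k] k)) :
    CoactBr.pt a.ofConv * CoactBr.pt b.ofConv = CoactBr.pt (a * b).ofConv :=
  (map_mul Spec.mapMulEquiv a b).symm

theorem pt_inv' (a : WithConv (A →ₐ[k] k)) :
    (CoactBr.pt a.ofConv)⁻¹ = CoactBr.pt (a⁻¹ : WithConv (A →ₐ[k] k)).ofConv := by
  rw [CoactBr.pt_inv]
  rfl

theorem exists_hom_conj {g g' : A →ₐ[k] k} {x : WithConv (A →ₐ[k] k)} (hx : x * toConv g * x⁻¹ = toConv g') :
    ∃ y : CoactBr.sp k k ⟶ CoactBr.sp k A, y * CoactBr.pt g * y⁻¹ = CoactBr.pt g' := by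
  refine ⟨CoactBr.pt x.ofConv, ?_⟩
  rw [pt_inv', show g = (toConv g).ofConv from rfl, pt_mul, pt_mul, hx]

end Groth.Agent.ConjSs
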