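import Groth.Agent.ConjSsLib.Fibre
import Groth.Agent.HopfPts.Sub
import Groth.Agent.HopfPts.Basic
import Mathlib

/-!
# Semisimple points with the same traces in all representations are conjugate
-/

set_option autoImplicit false
set_option maxHeartbeats 1000000
set_option backward.isDefEq.respectTransparency false
set_option backward.isDefEq.respectTransparency.types false
set_option linter.style.haveILetI false

universe u

open TensorProduct WithConv

noncomputable section

namespace Groth.Agent.ConjSs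

open Groth.Agent.Comodule Groth.Agent.LieKolchin Groth.Agent.LieRed

variable {k : Type u} [Field k] {A : Type u} [CommRing A] [HopfAlgebra k A]

/-- The comodule of a multiplicative matrix. -/
@[reducible] def matComod {d : ℕ} {M : Matrix (Fin d) (Fin d) A} (hM : IsMult k M) :
    HopfRep.Comod k A (Fin d → k) where
  coact := (Pi.basisFun k (Fin d)).constr k fun j => ∑ i, Pi.basisFun k (Fin d) i ⊗ₜ[k] M i j
  coassoc := by
    refine (Pi.basisFun k (Fin d)).ext fun j => ?_
    simp only [LinearMap.comp_apply, LinearEquiv.coe_coe, Module.Basis.constr_basis, map_sum, LinearMap.rTensor_tmul,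
      LinearMap.lTensor_tmul, hM.comul, TensorProduct.sum_tmul, TensorProduct.tmul_sum, TensorProduct.assoc_tmul]
    rw [Finset.sum_comm]
  counit_comp := by
    refine (Pi.basisFun k (Fin d)).ext fun j => ?_
    simp only [LinearMap.comp_apply, Module.Basis.constr_basis, map_sum, LinearMap.lTensor_tmul, hM.counit,
      LinearMap.flip_apply, TensorProduct.mk_apply]
    rw [Finset.sum_eq_single j (fun i _ hi => by rw [if_neg hi, TensorProduct.tmul_zero]) (by simp)]
    simp

theorem act_matComod {d : ℕ} {M : Matrix (Fin d) (Fin d) A} (hM : IsMult k M) (g : A →ₐ[k] k) :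
    @HopfRep.Comod.act k A _ _ _ (Fin d → k) _ _ (matComod hM) g = Matrix.toLin' (M.map g) := by
  letI := matComod hM
  rw [show HopfRep.Comod.act k A (Fin d → k) g = actHom k A (Fin d → k) (toConv g) from
    (actHom_eq_act (toConv g)).symm]
  refine (Pi.basisFun k (Fin d)).ext fun j => ?_
  show rcon g.toLinearMap ((Pi.basisFun k (Fin d)).constr k _ (Pi.basisFun k (Fin d) j)) = _
  rw [Module.Basis.constr_basis, map_sum, Pi.basisFun_apply, Matrix.toLin'_apply, Matrix.mulVec_single_one]
  funext i
  simp [rcon_tmul, Finset.sum_apply, Pi.single_apply]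

/-- Cocharacters of covers in a Hopf subalgebra generated by matrices of covers: points killing its common kernel
are trivial. -/
theorem counit_of_kills {M W : Submodule k A} (hc : IsCover k A M W) (F : Frame M W) {B : Subalgebra k A}
    (hB : HopfFF.IsHopfSub (k := k) (A := A) B) (hmat : ∀ i j, F.mat i j ∈ B) (i j : Fin F.n) :
    letI := HopfPts.subHopfAlgebra hB
    ∀ x : B →ₐ[k] k, (∀ a ∈ covIdeal k B, x a = Coalgebra.counit (R := k) a) →
      x ⟨F.mat i j, hmat i j⟩ = if i = j then 1 else 0 := by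
  letI := HopfPts.subHopfAlgebra hB
  intro x hx
  let Fc : A →ₗ[WithConv (A →ₗ[k] k)] A := coefMap (C := A) (F.dual i)
  let S : Submodule (WithConv (A →ₗ[k] k)) A := (toDual W hc.subW).map Fc
  have hSB : ∀ z ∈ S, z ∈ B := by
    rintro _ ⟨w, hw, rfl⟩
    rw [show Fc w = coefMap (C := A) (F.dual i) w from rfl, F.coefMap_eq hc (F.dual_mem i) hw]
    exact sum_mem fun l _ => sum_mem fun m _ => B.smul_mem (hmat l m) _
  have hval : ∀ (f : WithConv (A →ₗ[k] k)) (b : B),
      (((toConv (f.ofConv ∘ₗ B.val.toLinearMap) : WithConv (B →ₗ[k] k)) • b : B) : A) = f • (b : A) := by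
    intro f b
    simp only [smul_def, dact, LinearMap.comp_apply, coact_regular]
    rw [← HopfPts.map_subComul hB b]
    show B.val (rcon (f.ofConv ∘ₗ B.val.toLinearMap) (HopfPts.subComul hB b)) = _
    induction HopfPts.subComul hB b with
    | zero => simp
    | add p q hp hq => simp only [map_add, hp, hq]
    | tmul p q => simp [rcon_tmul]
  let SB : Submodule k B := (S.restrictScalars k).comap B.val.toLinearMap
  have hSBsub : HopfRep.IsSubcomod (k := k) (A := B) SB := by
    refine isSubcomod_iff.mpr fun f b hb => ?_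
    obtain ⟨f', hf'⟩ := LinearMap.exists_extend (p := Subalgebra.toSubmodule B) f.ofConv
    show ((f • b : B) : A) ∈ S
    have e : (toConv ((toConv f').ofConv ∘ₗ B.val.toLinearMap) : WithConv (B →ₗ[k] k)) = f :=
      WithConv.ofConv_injective (LinearMap.ext fun z => LinearMap.congr_fun hf' z)
    rw [← e, hval]
    exact S.smul_mem _ hb
  have hmem : (⟨F.mat i j, hmat i j⟩ : B) ∈ SB := ⟨F.vec j, F.vec_mem j, rfl⟩
  let s : B := ⟨F.mat i j, hmat i j⟩
  have hε : Coalgebra.counit (R := k) s = if i = j then 1 else 0 := by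
    show Coalgebra.counit (R := k) (F.mat i j) = _
    exact F.counit_mat i j
  by_cases hbot : SB = ⊥
  · have : s = 0 := (Submodule.eq_bot_iff SB).1 hbot s hmem
    rw [show (⟨F.mat i j, hmat i j⟩ : B) = s from rfl, ← hε, this, map_zero, map_zero]
  haveI : Module.Finite k SB := by
    haveI := hc.fin
    haveI : Module.Finite k (S.restrictScalars k) :=
      Module.Finite.of_surjective ((Fc.restrictScalars k).restrict (p := W) (q := S.restrictScalars k)
        fun w hw => ⟨w, hw, rfl⟩) fun ⟨z, w, hw, e⟩ => ⟨⟨w, hw⟩, Subtype.ext e⟩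
    exact Module.Finite.of_injective ((B.val.toLinearMap.restrict (p := SB) (q := S.restrictScalars k)
      fun b hb => hb)) fun a b e => Subtype.ext (Subtype.ext (congrArg Subtype.val e :))
  have hcov : IsCover k B ⊥ SB :=
    { subM := isSubcomod_bot
      subW := hSBsub
      fin := inferInstance
      lt := bot_lt_iff_ne_bot.2 hbot
      adj := fun P hP _ hPS => by
        let Q : Submodule k A := W ⊓ (P.map B.val.toLinearMap).comap (Fc.restrictScalars k)
        have hQ : HopfRep.IsSubcomod (k := k) (A := A) Q := by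
          refine isSubcomod_iff.mpr fun f w hw => ⟨isSubcomod_iff.mp hc.subW f w hw.1, ?_⟩
          obtain ⟨b, hb, e⟩ := hw.2
          refine ⟨_, isSubcomod_iff.mp hP (toConv (f.ofConv ∘ₗ B.val.toLinearMap)) b hb, ?_⟩
          show (((toConv (f.ofConv ∘ₗ B.val.toLinearMap) : WithConv (B →ₗ[k] k)) • b : B) : A) = Fc (f • w)
          rw [hval, map_smul]
          exact congrArg (f • ·) e
        rcases hc.adj Q hQ (fun m hm => ⟨hc.lt.le hm, ⟨0, P.zero_mem, by
            rw [map_zero]; exact (coefMap_eq_zero_of_subcomod hc.subM (F.dual_mem i) hm).symm⟩⟩)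
            (fun w hw => hw.1) with h | h
        · refine Or.inl ((Submodule.eq_bot_iff P).2 fun b hb => ?_)
          obtain ⟨w, hw, e⟩ := hPS hb
          have h1 : w ∈ Q := ⟨hw, b, hb, e.symm⟩
          rw [h] at h1
          exact Subtype.ext (e.symm.trans (coefMap_eq_zero_of_subcomod hc.subM (F.dual_mem i) h1))
        · refine Or.inr (le_antisymm hPS fun b hb => ?_)
          obtain ⟨w, hw, e⟩ := hb
          have h1 : w ∈ Q := h.symm ▸ hw
          obtain ⟨b', hb', e'⟩ := h1.2
          rwa [show b = b' from Subtype.ext (e.symm.trans e'.symm)] }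
  have hg : coefMap (C := B) (Coalgebra.counit (R := k) (A := B)) s - algebraMap k B (Coalgebra.counit (R := k) s) ∈
      covIdeal k B :=
    Ideal.subset_span ⟨⊥, SB, hcov, _, _, hmem, fun m hm => by rw [(Submodule.mem_bot k).1 hm, map_zero], rfl⟩
  have e : coefMap (C := B) (Coalgebra.counit (R := k) (A := B)) s = s := by
    rw [coefMap_apply, coact_regular, lcon_counit_comul]
  have := hx _ hg
  rw [e, map_sub, map_sub, AlgHom.commutes, Bialgebra.counit_algebraMap, Algebra.algebraMap_self, RingHom.id_apply,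
    sub_self, sub_eq_zero] at this
  exact this.trans hε

/-- The Hopf subalgebra generated by the matrices of finitely many covers. -/
theorem isHopfSub_adjoin_covers (gen : Set A)
    (hgen : ∀ b ∈ gen, ∃ (M W : Submodule k A) (_ : IsCover k A M W) (F : Frame M W) (i j : Fin F.n),
      (b = F.mat i j ∨ b = HopfAlgebra.antipode k (F.mat i j)) ∧
        ∀ i' j', F.mat i' j' ∈ gen ∧ HopfAlgebra.antipode k (F.mat i' j') ∈ gen) :
    HopfFF.IsHopfSub (k := k) (A := A) (Algebra.adjoin k gen) := by
  let B := Algebra.adjoin k gen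
  let m := Algebra.TensorProduct.map B.val B.val
  have hle : B ≤ m.range.comap (Bialgebra.comulAlgHom k A) ⊓ B.comap (HopfAlgebra.antipodeAlgHom k A) := by
    refine Algebra.adjoin_le ?_
    intro b hb
    obtain ⟨M, W, hc, F, i, j, hbm, hall⟩ := hgen b hb
    have h0 := HopfPts.isHopf_adjoin_mat F.mat (F.comul_mat hc) F.counit_mat
    let B' : Subalgebra k A := Algebra.adjoin k (Set.range (fun q : Fin F.n × Fin F.n => F.mat q.1 q.2) ∪
      Set.range fun q : Fin F.n × Fin F.n => HopfAlgebra.antipode k (F.mat q.1 q.2))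
    have hB' : B' ≤ B := Algebra.adjoin_mono <| by
      rintro _ (⟨q, rfl⟩ | ⟨q, rfl⟩)
      · exact (hall q.1 q.2).1
      · exact (hall q.1 q.2).2
    have hbB : b ∈ B' := Algebra.subset_adjoin <| by
      rcases hbm with rfl | rfl
      · exact Or.inl ⟨(i, j), rfl⟩
      · exact Or.inr ⟨(i, j), rfl⟩
    refine ⟨?_, hB' (h0.2 b hbB)⟩
    obtain ⟨z, hz⟩ := h0.1 b hbB
    refine ⟨Algebra.TensorProduct.map (Subalgebra.inclusion hB') (Subalgebra.inclusion hB') z, ?_⟩
    refine Eq.trans ?_ hz
    clear hz
    induction z with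
    | zero => simp
    | add p q hp hq => simp only [map_add] at hp hq ⊢; rw [hp, hq]
    | tmul p q => rfl
  exact ⟨fun b hb => (hle hb).1, fun b hb => (hle hb).2⟩

variable [IsAlgClosed k] [CharZero k] [Algebra.FiniteType k A]

/-- The reductive quotient: a finitely generated Hopf subalgebra which is linearly reductive and whose points
detect the irreducible representations. -/
theorem exists_red_sub :
    ∃ (B : Subalgebra k A) (hB : HopfFF.IsHopfSub (k := k) (A := A) B),
      letI := HopfPts.subHopfAlgebra hB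
      Algebra.FiniteType k B ∧ HopfRep.IsLinearlyReductive k B ∧
        ∀ n : A →ₐ[k] k, (∀ b : B, n b = Coalgebra.counit (R := k) (b : A)) → ∀ a ∈ covIdeal k A, n a = 0 := by
  classical
  haveI : IsNoetherianRing A := Algebra.FiniteType.isNoetherianRing k A
  obtain ⟨t, htS, ht⟩ := (Submodule.fg_span_iff_fg_span_finset_subset (covGen k A)).mp
    (IsNoetherian.noetherian (covIdeal k A))
  choose M W hc φ w hw hφ he using fun a : t => htS a.2
  let F : ∀ a : t, Frame (M a) (W a) := fun a => (hc a).nonempty_frame.some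
  let I := Σ a : t, Fin (F a).n × Fin (F a).n
  let gen : Set A := Set.range (fun p : I => (F p.1).mat p.2.1 p.2.2) ∪
    Set.range fun p : I => HopfAlgebra.antipode k ((F p.1).mat p.2.1 p.2.2)
  have hmem : ∀ (a : t) i j, (F a).mat i j ∈ gen ∧ HopfAlgebra.antipode k ((F a).mat i j) ∈ gen :=
    fun a i j => ⟨Or.inl ⟨⟨a, i, j⟩, rfl⟩, Or.inr ⟨⟨a, i, j⟩, rfl⟩⟩
  let B := Algebra.adjoin k gen
  have hB : HopfFF.IsHopfSub (k := k) (A := A) B := isHopfSub_adjoin_covers gen <| by
    rintro _ (⟨⟨a, i, j⟩, rfl⟩ | ⟨⟨a, i, j⟩, rfl⟩)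
    · exact ⟨M a, W a, hc a, F a, i, j, Or.inl rfl, hmem a⟩
    · exact ⟨M a, W a, hc a, F a, i, j, Or.inr rfl, hmem a⟩
  letI := HopfPts.subHopfAlgebra hB
  haveI hft : Algebra.FiniteType k B := (Subalgebra.fg_iff_finiteType B).1
    (Subalgebra.fg_def.2 ⟨gen, (Set.finite_range _).union (Set.finite_range _), rfl⟩)
  refine ⟨B, hB, hft, isLinearlyReductive_of_faithful fun x hx => ?_, fun n hn a ha => ?_⟩
  · have hX : ∀ (a : t), (Matrix.of fun i j => x ⟨(F a).mat i j, Algebra.subset_adjoin (hmem a i j).1⟩) = 1 := fun a =>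
      Matrix.ext fun i j => by
        rw [Matrix.of_apply, Matrix.one_apply]
        exact counit_of_kills (hc a) (F a) hB (fun i j => Algebra.subset_adjoin (hmem a i j).1) i j x hx
    refine AlgHom.ext fun b => ?_
    obtain ⟨b, hb⟩ := b
    show x ⟨b, hb⟩ = Coalgebra.counit (R := k) b
    induction hb using Algebra.adjoin_induction with
    | mem b hb =>
      rcases hb with ⟨⟨a, i, j⟩, rfl⟩ | ⟨⟨a, i, j⟩, rfl⟩
      · exact (congrFun (congrFun (hX a) i) j).trans ((Matrix.one_apply (i := i) (j := j)).trans ((F a).counit_mat i j).symm)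
      · let P : Matrix (Fin (F a).n) (Fin (F a).n) B := Matrix.of fun i j => ⟨(F a).mat i j, Algebra.subset_adjoin (hmem a i j).1⟩
        let P' : Matrix (Fin (F a).n) (Fin (F a).n) B := Matrix.of fun i j =>
          ⟨HopfAlgebra.antipode k ((F a).mat i j), Algebra.subset_adjoin (hmem a i j).2⟩
        have h1 : P' * P = 1 := by
          refine Matrix.ext fun i j => Subtype.ext ?_
          have h2 := congrFun (congrFun ((F a).mat_mul_antipode (hc a)).1 i) j
          simp only [Matrix.mul_apply, Matrix.map_apply, HopfAlgebra.antipodeAlgHom_apply] at h2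
          simp only [Matrix.mul_apply, P', P, Matrix.of_apply]
          push_cast
          refine h2.trans ?_
          rw [Matrix.one_apply, Matrix.one_apply]
          split_ifs <;> simp
        have h3 := congrArg x.mapMatrix h1
        rw [map_mul, map_one, show x.mapMatrix P = 1 from hX a, mul_one] at h3
        exact (congrFun (congrFun h3 i) j).trans ((Matrix.one_apply (i := i) (j := j)).trans
          ((HopfAlgebra.counit_antipode (R := k) ((F a).mat i j)).trans ((F a).counit_mat i j)).symm)
    | algebraMap c =>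
      rw [show (⟨algebraMap k A c, Subalgebra.algebraMap_mem B c⟩ : B) = algebraMap k B c from rfl, AlgHom.commutes,
        Bialgebra.counit_algebraMap, Algebra.algebraMap_self, RingHom.id_apply]
    | add p q hp hq hp' hq' =>
      rw [show (⟨p + q, add_mem hp hq⟩ : B) = ⟨p, hp⟩ + ⟨q, hq⟩ from rfl, map_add, map_add, hp', hq']
    | mul p q hp hq hp' hq' =>
      rw [show (⟨p * q, mul_mem hp hq⟩ : B) = ⟨p, hp⟩ * ⟨q, hq⟩ from rfl, map_mul, Bialgebra.counit_mul, hp', hq']
  · have hle : covIdeal k A ≤ RingHom.ker n := by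
      refine le_of_eq_of_le ht (Ideal.span_le.2 fun b hb => ?_)
      show n b = 0
      have hn' : ∀ i j, n ((F ⟨b, hb⟩).mat i j) = if i = j then 1 else 0 := fun i j =>
        (hn ⟨_, Algebra.subset_adjoin (hmem ⟨b, hb⟩ i j).1⟩).trans ((F ⟨b, hb⟩).counit_mat i j)
      have e := he ⟨b, hb⟩
      change b = _ at e
      rw [e, map_sub, (F ⟨b, hb⟩).coefMap_eq (hc _) (hφ _) (hw _), (F ⟨b, hb⟩).counit_sum (hφ _) (hw _),
        AlgHom.commutes, sub_eq_zero]
      simp only [map_sum, map_smul, hn', smul_ite, smul_zero, Finset.sum_ite_eq, Finset.mem_univ, if_true]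
      simp
    exact hle ha

omit [CharZero k] [Algebra.FiniteType k A] [IsAlgClosed k] in
theorem unip_of_kills {H : Type u} [CommRing H] [HopfAlgebra k H] {ι : H →ₐc[k] A}
    (hι : ∀ n : A →ₐ[k] k, (∀ h, n (ι h) = Coalgebra.counit (R := k) h) → ∀ a ∈ covIdeal k A, n a = 0) : Unip ι := by
  intro n hn P W hc w hw
  by_contra hne
  obtain ⟨φ, hφ, hφ0⟩ := Submodule.exists_dual_map_eq_bot_of_notMem hne inferInstance
  have hP : ∀ m ∈ P, φ m = 0 := fun m hm => (Submodule.mem_bot k).1 (hφ0 ▸ Submodule.mem_map_of_mem (f := φ) hm)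
  refine hφ ?_
  have h := hι n.ofConv (res_eq_one_iff.1 hn) _ (Ideal.subset_span ⟨P, W, hc, φ, w, hw, hP, rfl⟩)
  rw [map_sub, AlgHom.commutes, Algebra.algebraMap_self, RingHom.id_apply, apply_coefMap', sub_eq_zero] at h
  rw [map_sub, sub_eq_zero]
  exact h

/-- Semisimple points with the same traces in all representations are conjugate. -/
theorem conj_of_trace' {g g' : A →ₐ[k] k} (hg : SS g) (hg' : SS g')
    (htr : ∀ (n : ℕ) (c : HopfRep.Comod k A (Fin n → k)),
      LinearMap.trace k (Fin n → k) (@HopfRep.Comod.act k A _ _ _ (Fin n → k) _ _ c g) =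
        LinearMap.trace k (Fin n → k) (@HopfRep.Comod.act k A _ _ _ (Fin n → k) _ _ c g')) :
    ∃ x : WithConv (A →ₐ[k] k), x * toConv g * x⁻¹ = toConv g' := by
  obtain ⟨B, hB, hft, hlr, hker⟩ := exists_red_sub (k := k) (A := A)
  letI := HopfPts.subHopfAlgebra hB
  haveI := hft
  let ι : B →ₐc[k] A := BialgHom.ofAlgHom B.val (AlgHom.ext fun _ => rfl) (AlgHom.ext fun b => HopfPts.map_subComul hB b)
  have hιinj : Function.Injective ι := Subtype.val_injective
  have hss : ∀ {x : A →ₐ[k] k}, SS x → SS (res ι (toConv x)).ofConv := by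
    intro x hx
    obtain ⟨d, M, hM, hgen⟩ := exists_gen_matrix k B
    have hM' : IsMult k (M.map ι) := by
      refine ⟨fun i j => ?_, fun i j => ?_⟩
      · rw [Matrix.map_apply, ← CoalgHomClass.map_comp_comul_apply ι, hM.comul, map_sum]
        exact Finset.sum_congr rfl fun l _ => TensorProduct.map_tmul _ _ _ _
      · rw [Matrix.map_apply, CoalgHomClass.counit_comp_apply, hM.counit]
    obtain ⟨q, hq, hq0⟩ := exists_sqfree hM' hx
    exact ss_of_aeval hM hgen hq (by rw [Matrix.map_map] at hq0; exact hq0)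
  have htrB : ∀ (n : ℕ) (c : HopfRep.Comod k B (Fin n → k)),
      LinearMap.trace k (Fin n → k) (@HopfRep.Comod.act k B _ _ _ (Fin n → k) _ _ c (res ι (toConv g)).ofConv) =
        LinearMap.trace k (Fin n → k) (@HopfRep.Comod.act k B _ _ _ (Fin n → k) _ _ c (res ι (toConv g')).ofConv) := by
    intro n c
    letI := c
    let cA : HopfRep.Comod k A (Fin n → k) := pushComod (Fin n → k) (ι : B →ₗc[k] A)
    have e : ∀ x : A →ₐ[k] k, @HopfRep.Comod.act k A _ _ _ (Fin n → k) _ _ cA x =
        HopfRep.Comod.act k B (Fin n → k) (res ι (toConv x)).ofConv := by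
      intro x
      refine LinearMap.ext fun v => ?_
      show TensorProduct.rid k _ (LinearMap.lTensor _ x.toLinearMap ((ι : B →ₗc[k] A).toLinearMap.lTensor _
        (HopfRep.Comod.coact (k := k) (A := B) v))) = _
      rw [← LinearMap.lTensor_comp_apply]
      rfl
    rw [← e, ← e]
    exact htr n cA
  obtain ⟨y, hy⟩ := conj_of_trace hlr (hss hg) (hss hg') htrB
  obtain ⟨x₀, hx₀⟩ := HopfPts.exists_point_comp ι (fun a ha => by
    rw [hιinj (ha.trans (map_zero ι).symm)]; exact IsNilpotent.zero) y.ofConv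
  have hx₀' : res ι (toConv x₀) = y := WithConv.ofConv_injective hx₀
  obtain ⟨x, hx⟩ := conj_of_res (ι := ι) (unip_of_kills fun n hn => hker n hn) (ss_conj hg (toConv x₀)) hg' (by
    rw [toConv_ofConv, map_mul, map_mul, map_inv, hx₀', hy])
  refine ⟨x * toConv x₀, ?_⟩
  simp only [toConv_ofConv] at hx
  rw [← hx]
  group

end Groth.Agent.ConjSs
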