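import Groth.Agent.ConjSsLib.Main
import Groth.Agent.JordanLib.Main
import Groth.Agent.Comodule.Antipode
import Groth.Prelude.Def_CoactBr
import Mathlib

/-!
# The closed conjugacy classes of a linearly reductive group are the semisimple ones
-/

set_option autoImplicit false
set_option maxHeartbeats 1000000
set_option backward.isDefEq.respectTransparency false
set_option backward.isDefEq.respectTransparency.types false
set_option linter.style.haveILetI false

universe u

open TensorProduct WithConv CategoryTheory MonoidalCategory CartesianMonoidalCategory MonObj AlgebraicGeometry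
open scoped TensorProduct MonObj

noncomputable section

namespace Groth.Agent.ConjSs

open Groth.Agent.Comodule Groth.Agent.LieKolchin

variable {k : Type u} [Field k] {A : Type u} [CommRing A] [HopfAlgebra k A]
variable [IsAlgClosed k] [CharZero k] [Algebra.FiniteType k A]

/-- Invariant functions do not separate points with the same traces. -/
theorem invariant_eq_of_trace (hA : HopfRep.IsLinearlyReductive k A) {g g' : A →ₐ[k] k}
    (htr : ∀ (n : ℕ) (c : HopfRep.Comod k A (Fin n → k)),
      LinearMap.trace k (Fin n → k) (@HopfRep.Comod.act k A _ _ _ (Fin n → k) _ _ c g) =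
        LinearMap.trace k (Fin n → k) (@HopfRep.Comod.act k A _ _ _ (Fin n → k) _ _ c g'))
    {f : A} (hf : ad k A f = f ⊗ₜ[k] (1 : A)) : g f = g' f := by
  classical
  have hss : ∀ N : Submodule (WithConv (A →ₗ[k] k)) A, Module.Finite k (N.restrictScalars k) →
      IsSemisimpleModule (WithConv (A →ₗ[k] k)) N := by
    intro N hN
    let hsub := isSubcomod_restrictScalars N
    letI := subComod (N.restrictScalars k) hsub
    haveI : IsSemisimpleModule (WithConv (A →ₗ[k] k)) (N.restrictScalars k) := isSemisimpleComod_iff.mp (hA _ hN)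
    exact IsSemisimpleModule.congr (subEquiv (N.restrictScalars k) hsub).symm
  obtain ⟨n, d, c, hs, hne, hf'⟩ := exists_simple_cf (f := f) hss
  have hmem := mem_span_char_of_cocomm c hs hne hf' (fun φ ψ => cocomm_of_invariant hf φ ψ)
  suffices h : ∀ b ∈ Submodule.span k (Set.range fun i => ∑ t, cf (c i) t t), g b = g' b from h f hmem
  intro b hb
  induction hb using Submodule.span_induction with
  | mem x hx =>
    obtain ⟨i, rfl⟩ := hx
    have e : ∀ g₀ : A →ₐ[k] k, g₀ (∑ t, cf (c i) t t) =
        LinearMap.trace k (Fin (d i) → k) (@HopfRep.Comod.act k A _ _ _ (Fin (d i) → k) _ _ (c i) g₀) := by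
      intro g₀
      letI := c i
      rw [map_sum, LinearMap.trace_eq_matrix_trace k (Pi.basisFun k (Fin (d i))), Matrix.trace]
      refine Finset.sum_congr rfl fun t _ => ?_
      rw [Matrix.diag_apply, LinearMap.toMatrix_apply, Pi.basisFun_repr, Pi.basisFun_apply]
      refine (apply_cf (c i) (toConv g₀.toLinearMap) t t).trans ?_
      rw [show HopfRep.Comod.act k A (Fin (d i) → k) g₀ = actHom k A (Fin (d i) → k) (toConv g₀) from
        (actHom_eq_act (toConv g₀)).symm]
      rfl
    rw [e, e, htr]
  | zero => simp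
  | add a b _ _ ha hb => rw [map_add, map_add, ha, hb]
  | smul r a _ ha => rw [map_smul, map_smul, ha]

theorem isClosedOrbit_iff_ss (hA : HopfRep.IsLinearlyReductive k A) (g : A →ₐ[k] k) :
    GLin.IsClosedOrbit k A (cpt g) ↔ SS g := by
  rw [StableLocus.isClosedOrbit_iff]
  refine ⟨fun hcl => ?_, isClosedPt_of_ss⟩
  obtain ⟨gs, gu, ⟨m1, m2, hV⟩, -⟩ := Jordan.main g
  obtain ⟨d, M, hM, hgen⟩ := exists_gen_matrix k A
  have hgs : SS gs := by
    letI := matComod hM
    have h := (hV (Fin d → k) inferInstance).1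
    rw [act_matComod] at h
    refine ss_of_aeval hM hgen h.minpoly_squarefree ?_
    apply (Matrix.toLinAlgEquiv' (R := k)).injective
    rw [map_zero]
    exact (Polynomial.aeval_algHom_apply (Matrix.toLinAlgEquiv' (R := k)).toAlgHom (M.map gs) _).symm.trans
      (minpoly.aeval k (Matrix.toLin' (M.map gs)))
  have htr : ∀ (n : ℕ) (c : HopfRep.Comod k A (Fin n → k)),
      LinearMap.trace k (Fin n → k) (@HopfRep.Comod.act k A _ _ _ (Fin n → k) _ _ c g) =
        LinearMap.trace k (Fin n → k) (@HopfRep.Comod.act k A _ _ _ (Fin n → k) _ _ c gs) := by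
    intro n c
    letI := c
    have h2 := (hV (Fin n → k) inferInstance).2
    rw [← actHom_eq_act (toConv gu)] at h2
    rw [← actHom_eq_act (toConv g), ← actHom_eq_act (toConv gs), ← m1, map_mul]
    have hc : Commute (actHom k A (Fin n → k) (toConv gs)) (actHom k A (Fin n → k) (toConv gu) - 1) := by
      refine Commute.sub_right ?_ (Commute.one_right _)
      show _ * _ = _ * _
      rw [← map_mul, ← map_mul, m1, m2]
    have h4 := (LinearMap.isNilpotent_trace_of_isNilpotent (hc.isNilpotent_mul_left h2)).eq_zero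
    rw [mul_sub, _root_.mul_one, map_sub, sub_eq_zero] at h4
    exact h4
  obtain ⟨y, -, -, huniq⟩ := ClosedOrbit.exists_closed_in_fibre hA (cpt g)
  obtain ⟨u, hu⟩ := huniq (cpt g) rfl hcl
  obtain ⟨v, hv⟩ := huniq (cpt gs)
    (AlgHom.ext fun f => (invariant_eq_of_trace hA htr (f := (f : Cj A)) f.2).symm) (isClosedPt_of_ss hgs)
  let w := toConv (v.comp (HopfAlgebra.antipodeAlgHom k A)) * toConv u
  have e1 : cpt g = GLin.actPt k w.ofConv (cpt gs) := by
    rw [← ClosedOrbit.actPt_actPt, hv, ← ClosedOrbit.exists_actPt_symm v y, hu]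
  rw [actPt_cpt, toConv_ofConv] at e1
  have h := ss_conj hgs w⁻¹
  rw [inv_inv] at h
  have e2 : g = (w⁻¹ * toConv gs * w).ofConv := congrArg gpt e1
  rw [e2]
  exact h

omit [IsAlgClosed k] [CharZero k] [Algebra.FiniteType k A] in
theorem antipode_comp_orbC (g : A →ₐ[k] k) :
    toConv ((HopfAlgebra.antipodeAlgHom k A).comp (orbC g)) =
      toConv (AlgHom.id k A) * toConv ((Algebra.ofId k A).comp g) * toConv (HopfAlgebra.antipodeAlgHom k A) := by
  rw [show orbC g = (toConv (orbC g)).ofConv from rfl, orbitHom_cpt, comp_mul_toConv, comp_mul_toConv]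
  congr 1
  congr 1
  · congr 1
    refine AlgHom.ext fun a => ?_
    exact antipode_antipode k A a
  · congr 1
    refine AlgHom.ext fun a => ?_
    show HopfAlgebra.antipodeAlgHom k A (algebraMap k A (g a)) = algebraMap k A (g a)
    exact AlgHom.commutes _ _

/-- The range of conjugation applied to a point is closed iff the orbit is. -/
theorem isClosed_range_iff (g : A →ₐ[k] k) :
    IsClosed (Set.range ((𝟙 (CoactBr.sp k A) * CoactBr.pt ((Algebra.ofId k A).comp g) *
        (𝟙 (CoactBr.sp k A))⁻¹).left.base)) ↔ GLin.IsClosedOrbit k A (cpt g) := by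
  have e : 𝟙 (CoactBr.sp k A) * CoactBr.pt ((Algebra.ofId k A).comp g) * (𝟙 (CoactBr.sp k A))⁻¹ =
      CoactBr.pt ((HopfAlgebra.antipodeAlgHom k A).comp (orbC g)) := by
    have hm : ∀ (a b : A →ₐ[k] A), CoactBr.pt a * CoactBr.pt b = CoactBr.pt (toConv a * toConv b).ofConv := fun a b =>
      (map_mul Spec.mapMulEquiv (toConv a) (toConv b)).symm
    rw [← CoactBr.pt_id (R := k) (B := A), CoactBr.pt_inv, AlgHom.id_comp, hm, hm, toConv_ofConv, ← antipode_comp_orbC,
      ofConv_toConv]
  rw [e, CoactBr.pt_left]
  let S : A →ₐ[k] A := HopfAlgebra.antipodeAlgHom k A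
  have hS : S.comp S = AlgHom.id k A := AlgHom.ext fun a => antipode_antipode k A a
  have hsurj : Function.Surjective (PrimeSpectrum.comap S.toRingHom) := fun p => by
    refine ⟨PrimeSpectrum.comap S.toRingHom p, ?_⟩
    rw [← PrimeSpectrum.comap_comp_apply]
    exact congrArg (fun z : A →ₐ[k] A => PrimeSpectrum.comap z.toRingHom p) hS
  show IsClosed (Set.range (PrimeSpectrum.comap (orbC g).toRingHom ∘ PrimeSpectrum.comap S.toRingHom)) ↔ _
  rw [hsurj.range_comp]
  rfl

end Groth.Agent.ConjSs
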