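import Groth.Agent.ConjSsLib.Closed
import Groth.Agent.Comodule.CharIndep
import Groth.Agent.HopfFF.Linear
import Groth.Agent.Comodule.ClosedOrbit
import Mathlib

/-!
# Semisimple points with the same characters are conjugate in a linearly reductive group
-/

set_option autoImplicit false
set_option maxHeartbeats 1000000
set_option backward.isDefEq.respectTransparency false
set_option backward.isDefEq.respectTransparency.types false

universe u

open TensorProduct WithConv

noncomputable section

namespace Groth.Agent.ConjSs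

open Groth.Agent.Comodule Groth.Agent.LieKolchin

variable {k : Type u} [Field k] {A : Type u} [CommRing A] [HopfAlgebra k A]

/-- A point acting semisimply on the coordinate ring. -/
abbrev SS (g : A →ₐ[k] k) : Prop := Module.End.IsSemisimple (HopfRep.Comod.act k A A g)

theorem act_apply_eq (g : A →ₐ[k] k) (a : A) :
    HopfRep.Comod.act k A A g a = EqZMT.transl (R := A) k A g a := by
  have h := LinearMap.congr_fun (actHom_eq_act (V := A) (toConv g)).symm a
  rw [ofConv_toConv] at h
  rw [h, EqZMT.transl_apply]
  rfl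

variable {d : ℕ} {M : Matrix (Fin d) (Fin d) A}

theorem act_entry (hM : IsMult k M) (g : A →ₐ[k] k) (i j : Fin d) :
    HopfRep.Comod.act k A A g (M i j) = ∑ l, g (M l j) • M i l := by
  rw [act_apply_eq, EqZMT.transl_apply, coact_regular, hM.comul, map_sum]
  simp

theorem aeval_act_entry (hM : IsMult k M) (g : A →ₐ[k] k) (p : Polynomial k) (i j : Fin d) :
    Polynomial.aeval (HopfRep.Comod.act k A A g) p (M i j) = ∑ l, (Polynomial.aeval (M.map g) p) l j • M i l := by
  induction p using Polynomial.induction_on' generalizing i j with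
  | add p q hp hq => simp only [map_add, LinearMap.add_apply, hp, hq, Matrix.add_apply, add_smul, Finset.sum_add_distrib]
  | monomial n c =>
    simp only [Polynomial.aeval_monomial, ← Algebra.smul_def, LinearMap.smul_apply, Matrix.smul_apply, smul_assoc,
      ← Finset.smul_sum]
    congr 1
    induction n generalizing j with
    | zero => simp [Matrix.one_apply]
    | succ n ih =>
      rw [pow_succ, Module.End.mul_apply, act_entry hM, map_sum]
      simp only [map_smul, ih, Finset.smul_sum, smul_smul]
      rw [Finset.sum_comm]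
      refine Finset.sum_congr rfl fun l _ => ?_
      rw [pow_succ, Matrix.mul_apply, Finset.sum_smul]
      exact Finset.sum_congr rfl fun m _ => by rw [Matrix.map_apply, mul_comm]

theorem exists_sqfree (hM : IsMult k M) {g : A →ₐ[k] k} (hg : SS g) :
    ∃ q : Polynomial k, Squarefree q ∧ Polynomial.aeval (M.map g) q = 0 := by
  let T := HopfRep.Comod.act k A A g
  let P : Submodule k A := Submodule.span k (Set.range fun p : Fin d × Fin d => M p.1 p.2)
  haveI : Module.Finite k P := Module.Finite.span_of_finite k (Set.finite_range _)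
  have hP : P ∈ Module.End.invtSubmodule T := by
    show P ≤ P.comap T
    refine Submodule.span_le.2 ?_
    rintro _ ⟨⟨i, j⟩, rfl⟩
    show T (M i j) ∈ P
    rw [act_entry hM]
    exact Submodule.sum_mem _ fun l _ => P.smul_mem _ (Submodule.subset_span ⟨(i, l), rfl⟩)
  have hPm : ∀ x ∈ P, T x ∈ P := fun x hx => hP hx
  let Tr : Module.End k P := T.restrict hPm
  have h1 : Module.End.IsSemisimple Tr := Module.End.IsSemisimple.restrict hP hg
  refine ⟨minpoly k Tr, h1.minpoly_squarefree, Matrix.ext fun i j => ?_⟩
  have h2 : ∀ (p : Polynomial k) (x : P),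
      ((Polynomial.aeval Tr p x : P) : A) = Polynomial.aeval T p (x : A) := by
    intro p x
    induction p using Polynomial.induction_on' with
    | add p q hp hq => simp only [map_add, LinearMap.add_apply, Submodule.coe_add, hp, hq]
    | monomial n c =>
      simp only [Polynomial.aeval_monomial, ← Algebra.smul_def, LinearMap.smul_apply, Submodule.coe_smul]
      congr 1
      induction n with
      | zero => simp
      | succ n ih => rw [pow_succ', pow_succ', Module.End.mul_apply, Module.End.mul_apply, ← ih]; rfl
  have h3 := h2 (minpoly k Tr) ⟨M i j, Submodule.subset_span ⟨(i, j), rfl⟩⟩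
  rw [show Polynomial.aeval Tr (minpoly k Tr) = 0 from minpoly.aeval k Tr,
    LinearMap.zero_apply, Submodule.coe_zero, aeval_act_entry hM] at h3
  have h4 := congrArg (Coalgebra.counit (R := k)) h3
  rw [map_zero, map_sum] at h4
  simp only [map_smul, hM.counit, smul_eq_mul, mul_ite, mul_one, mul_zero, Finset.sum_ite_eq, Finset.mem_univ,
    if_true] at h4
  exact h4.symm

variable [IsAlgClosed k]

theorem ss_of_aeval (hM : IsMult k M) (hgen : Algebra.adjoin k (Set.range fun p : Fin d × Fin d => M p.1 p.2) = ⊤)
    {g : A →ₐ[k] k} {q : Polynomial k} (hq : Squarefree q) (hg : Polynomial.aeval (M.map g) q = 0) : SS g := by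
  let T : Module.End k A := HopfRep.Comod.act k A A g
  refine isSemisimple_of_iSup_eigenspace T (eq_top_iff.2 fun a _ => ?_)
  let E : Submodule k A := ⨆ μ, T.eigenspace μ
  have hT : ∀ x, T x = EqZMT.transl (R := A) k A g x := act_apply_eq g
  have hone : (1 : A) ∈ E := Submodule.mem_iSup_of_mem 1 (Module.End.mem_eigenspace_iff.2 (by
    rw [hT, _root_.map_one, one_smul]))
  have hmul : ∀ x y, x ∈ E → y ∈ E → x * y ∈ E := by
    intro x y hx hy
    refine Submodule.iSup_induction _ (motive := fun z => z * y ∈ E) hx (fun c z hz => ?_)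
      (by simp) (fun p r hp hr => by rw [add_mul]; exact add_mem hp hr)
    refine Submodule.iSup_induction _ (motive := fun v => z * v ∈ E) hy (fun e v hv => ?_)
      (by simp) (fun p r hp hr => by rw [mul_add]; exact add_mem hp hr)
    refine Submodule.mem_iSup_of_mem (c * e) (Module.End.mem_eigenspace_iff.2 ?_)
    rw [hT, _root_.map_mul, ← hT, ← hT, Module.End.mem_eigenspace_iff.1 hz, Module.End.mem_eigenspace_iff.1 hv,
      smul_mul_smul_comm]
  let Eal : Subalgebra k A :=
    { carrier := E
      mul_mem' := fun {p r} hp hr => hmul p r hp hr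
      one_mem' := hone
      add_mem' := fun hp hr => add_mem hp hr
      zero_mem' := zero_mem E
      algebraMap_mem' := fun r => by rw [Algebra.algebraMap_eq_smul_one]; exact E.smul_mem r hone }
  suffices h : Algebra.adjoin k (Set.range fun p : Fin d × Fin d => M p.1 p.2) ≤ Eal from
    h (hgen ▸ Algebra.mem_top (x := a))
  refine Algebra.adjoin_le ?_
  rintro _ ⟨⟨i, j⟩, rfl⟩
  -- row vectors of the semisimple matrix
  let L : Module.End k (Matrix (Fin d) (Fin d) k) := LinearMap.mulLeft k (M.map g)
  have hL : L.IsSemisimple := Module.End.isSemisimple_of_squarefree_aeval_eq_zero hq (by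
    rw [aeval_mulLeft, hg, LinearMap.mulLeft_zero_eq_zero])
  have htop : ⨆ μ, L.eigenspace μ = ⊤ := by
    simp only [← (hL.isFinitelySemisimple).maxGenEigenspace_eq_eigenspace]
    exact Module.End.iSup_maxGenEigenspace_eq_top L
  let F : Matrix (Fin d) (Fin d) k →ₗ[k] A :=
    { toFun := fun X => ∑ l, X l j • M i l
      map_add' := fun X Y => by simp [add_smul, Finset.sum_add_distrib]
      map_smul' := fun c X => by simp [mul_smul, Finset.smul_sum] }
  have hF : ∀ X, T (F X) = F (L X) := fun X => by
    show T (∑ l, X l j • M i l) = ∑ l, (M.map g * X) l j • M i l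
    simp only [map_sum, map_smul, T, act_entry hM, Finset.smul_sum, Matrix.mul_apply, Finset.sum_smul, smul_smul,
      Matrix.map_apply]
    rw [Finset.sum_comm]
    exact Finset.sum_congr rfl fun l _ => Finset.sum_congr rfl fun m _ => by rw [mul_comm]
  have h1 : M i j = F 1 := by simp [F, Matrix.one_apply]
  show M i j ∈ E
  rw [h1]
  refine Submodule.iSup_induction _ (motive := fun X => F X ∈ E) (show (1 : Matrix (Fin d) (Fin d) k) ∈ ⨆ μ, L.eigenspace μ from
    htop ▸ Submodule.mem_top) (fun μ X hX => Submodule.mem_iSup_of_mem μ (Module.End.mem_eigenspace_iff.2 (by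
      rw [hF, Module.End.mem_eigenspace_iff.1 hX, map_smul]))) (by rw [map_zero]; exact zero_mem _)
    (fun X Y hX hY => by rw [map_add]; exact add_mem hX hY)

theorem exists_gen_matrix (k : Type u) [Field k] (A : Type u) [CommRing A] [HopfAlgebra k A] [Algebra.FiniteType k A] :
    ∃ (d : ℕ) (M : Matrix (Fin d) (Fin d) A), IsMult k M ∧
      Algebra.adjoin k (Set.range fun p : Fin d × Fin d => M p.1 p.2) = ⊤ := by
  obtain ⟨s, hs⟩ := (inferInstance : Algebra.FiniteType k A).out
  obtain ⟨n, M, _, _, h0, h2, hmem⟩ := HopfFF.exists_coord_matrix (k := k) s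
  refine ⟨n, M, ⟨h0, h2⟩, top_le_iff.1 (hs.symm.le.trans (Algebra.adjoin_le fun a ha => ?_))⟩
  exact Algebra.span_le_adjoin k _ (hmem a ha)

theorem ss_conj [Algebra.FiniteType k A] {g : A →ₐ[k] k} (hg : SS g) (x : WithConv (A →ₐ[k] k)) :
    SS (x * toConv g * x⁻¹).ofConv := by
  obtain ⟨d, M, hM, hgen⟩ := exists_gen_matrix k A
  obtain ⟨q, hq, hq0⟩ := exists_sqfree hM hg
  refine ss_of_aeval hM hgen hq ?_
  rw [hM.map_mul, hM.map_mul, aeval_conj_eq (hM.map_mul_inv x) (hM.map_inv_mul x), ofConv_toConv, hq0, mul_zero, zero_mul]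

section Red

variable [CharZero k] [Algebra.FiniteType k A]

theorem isClosedPt_of_ss {g : A →ₐ[k] k} (hg : SS g) : StableLocus.IsClosedPt A (cpt g) := by
  obtain ⟨d, M, hM, hgen⟩ := exists_gen_matrix k A
  obtain ⟨q, hq, hq0⟩ := exists_sqfree hM hg
  exact isClosedPt_cpt hM hgen hq hq0

theorem cocomm_of_invariant {f : A} (hf : ad k A f = f ⊗ₜ[k] (1 : A)) (φ ψ : WithConv (A →ₗ[k] k)) :
    (φ * ψ).ofConv f = (ψ * φ).ofConv f := by
  haveI : Algebra.FiniteType k (A ⊗[k] A) := Algebra.FiniteType.trans (R := k) (S := A) inferInstance inferInstance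
  have hsym : Bialgebra.comulAlgHom k A f =
      Algebra.TensorProduct.comm k A A (Bialgebra.comulAlgHom k A f) := by
    refine LunaNhd.eq_of_forall_pt (k := k) (A := A ⊗[k] A) fun p => ?_
    let x := p.comp (iL k A)
    let y := p.comp (iR k A)
    have e1 : p (Bialgebra.comulAlgHom k A f) = (toConv x * toConv y).ofConv f :=
      congrArg (fun z : WithConv (A →ₐ[k] k) => z.ofConv f) (toConv_comp_comul p)
    have e2 : p (Algebra.TensorProduct.comm k A A (Bialgebra.comulAlgHom k A f)) = (toConv y * toConv x).ofConv f := by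
      have h := toConv_comp_comul (p.comp (Algebra.TensorProduct.comm k A A).toAlgHom)
      rw [show (p.comp (Algebra.TensorProduct.comm k A A).toAlgHom).comp (iL k A) = y from by ext a; simp [y],
        show (p.comp (Algebra.TensorProduct.comm k A A).toAlgHom).comp (iR k A) = x from by ext a; simp [x]] at h
      exact congrArg (fun z : WithConv (A →ₐ[k] k) => z.ofConv f) h
    rw [e1, e2]
    have h := apply_ad (toConv x * toConv y).ofConv x f
    rw [hf, Algebra.TensorProduct.lift_tmul, _root_.map_one, mul_one, toConv_ofConv, inv_mul_cancel_left] at h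
    exact h
  rw [LinearMap.convMul_apply, LinearMap.convMul_apply]
  simp only [Bialgebra.comulAlgHom_apply] at hsym
  conv_lhs => rw [hsym]
  generalize CoalgebraStruct.comul (R := k) f = t
  induction t using TensorProduct.induction_on with
  | zero => simp
  | tmul a b => simp [mul_comm]
  | add a b ha hb => simp only [map_add, ha, hb]

/-- Semisimple points with the same characters are conjugate. -/
theorem conj_of_trace (hA : HopfRep.IsLinearlyReductive k A) {g g' : A →ₐ[k] k} (hg : SS g) (hg' : SS g')
    (htr : ∀ (n : ℕ) (c : HopfRep.Comod k A (Fin n → k)),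
      LinearMap.trace k (Fin n → k) (@HopfRep.Comod.act k A _ _ _ (Fin n → k) _ _ c g) =
        LinearMap.trace k (Fin n → k) (@HopfRep.Comod.act k A _ _ _ (Fin n → k) _ _ c g')) :
    ∃ x : WithConv (A →ₐ[k] k), x * toConv g * x⁻¹ = toConv g' := by
  classical
  have hss : ∀ N : Submodule (WithConv (A →ₗ[k] k)) A, Module.Finite k (N.restrictScalars k) →
      IsSemisimpleModule (WithConv (A →ₗ[k] k)) N := by
    intro N hN
    let hsub := isSubcomod_restrictScalars N
    letI := subComod (N.restrictScalars k) hsub
    haveI : IsSemisimpleModule (WithConv (A →ₗ[k] k)) (N.restrictScalars k) := isSemisimpleComod_iff.mp (hA _ hN)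
    exact IsSemisimpleModule.congr (subEquiv (N.restrictScalars k) hsub).symm
  have hval : ∀ f : A, ad k A f = f ⊗ₜ[k] (1 : A) → g f = g' f := by
    intro f hf
    obtain ⟨n, d, c, hs, hne, hf'⟩ := exists_simple_cf (f := f) hss
    have hmem := mem_span_char_of_cocomm c hs hne hf' (fun φ ψ => cocomm_of_invariant hf φ ψ)
    suffices h : ∀ b ∈ Submodule.span k (Set.range fun i => ∑ t, cf (c i) t t), g b = g' b from h f hmem
    intro b hb
    clear hf hf' hmem
    induction hb using Submodule.span_induction with
    | mem x hx =>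
      obtain ⟨i, rfl⟩ := hx
      have e : ∀ g₀ : A →ₐ[k] k, g₀ (∑ t, cf (c i) t t) =
          LinearMap.trace k (Fin (d i) → k) (@HopfRep.Comod.act k A _ _ _ (Fin (d i) → k) _ _ (c i) g₀) := by
        intro g₀
        letI := c i
        rw [map_sum, LinearMap.trace_eq_matrix_trace k (Pi.basisFun k (Fin (d i))), Matrix.trace]
        refine Finset.sum_congr rfl fun t _ => ?_
        rw [Matrix.diag_apply, LinearMap.toMatrix_apply, Pi.basisFun_repr, Pi.basisFun_apply]
        refine (apply_cf (c i) (toConv g₀.toLinearMap) t t).trans ?_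
        rw [show HopfRep.Comod.act k A (Fin (d i) → k) g₀ = actHom k A (Fin (d i) → k) (toConv g₀) from
          (actHom_eq_act (toConv g₀)).symm]
        rfl
      rw [e, e, htr]
    | zero => simp
    | add a b _ _ ha hb => rw [map_add, map_add, ha, hb]
    | smul r a _ ha => rw [map_smul, map_smul, ha]
  obtain ⟨y, -, -, huniq⟩ := ClosedOrbit.exists_closed_in_fibre hA (cpt g)
  obtain ⟨u, hu⟩ := huniq (cpt g) rfl (isClosedPt_of_ss hg)
  obtain ⟨v, hv⟩ := huniq (cpt g') (AlgHom.ext fun f => (hval (f : Cj A) f.2).symm) (isClosedPt_of_ss hg')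
  have e1 : cpt g' = GLin.actPt k (toConv (u.comp (HopfAlgebra.antipodeAlgHom k A)) * toConv v).ofConv (cpt g) := by
    rw [← ClosedOrbit.actPt_actPt, hu, ← ClosedOrbit.exists_actPt_symm u y, hv]
  rw [actPt_cpt] at e1
  let w := toConv (u.comp (HopfAlgebra.antipodeAlgHom k A)) * toConv v
  refine ⟨w⁻¹, ?_⟩
  have e2 := congrArg (fun z : Cj A →ₐ[k] k => toConv (gpt z)) e1
  simp only [gpt_cpt, toConv_ofConv] at e2
  rw [inv_inv]
  exact e2.symm

end Red

end Groth.Agent.ConjSs
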